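import Groth.Agent.FibreDim.GenericImage
import Groth.Agent.Variety2.DimAffine
import Groth.Agent.VarietyBC.TensorAlgClosed
import Mathlib.RingTheory.AlgebraicIndependent.Transcendental
import Mathlib.RingTheory.Algebraic.Basic

/-!
A map from an affine variety to one of smaller dimension has an infinite fibre on rational points.
-/

set_option autoImplicit false
universe u

noncomputable section

namespace Groth.Rosen

variable {k : Type u} [Field k]

/-- The transcendence degree of a finitely generated domain is its dimension. -/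
theorem exists_trdeg_dim (A : Type u) [CommRing A] [IsDomain A] [Algebra k A] [Algebra.FiniteType k A] :
    ∃ n : ℕ, Algebra.trdeg k A = n ∧ ringKrullDim A = n := by
  obtain ⟨n, hn, hd, -⟩ := Groth.Variety2.Dim.exists_dim k A
  refine ⟨n, ?_, hd⟩
  have : Algebra.IsAlgebraic A (FractionRing A) := IsLocalization.isAlgebraic _ (nonZeroDivisors A)
  rw [← hn, ← trdeg_add_eq k A (A := FractionRing A), trdeg_eq_zero (R := A) (A := FractionRing A), add_zero]

variable [IsAlgClosed k]

theorem exists_infinite_fiber {S R : Type u} [CommRing S] [CommRing R] [IsDomain R] [Algebra k S]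
    [Algebra k R] [Algebra.FiniteType k S] [Algebra.FiniteType k R] (φ : S →ₐ[k] R)
    (hd : ringKrullDim S < ringKrullDim R) :
    ∃ ψ : S →ₐ[k] k, {χ : R →ₐ[k] k | χ.comp φ = ψ}.Infinite := by
  let S' := φ.range
  have : Algebra.FiniteType k S' := Algebra.FiniteType.of_surjective φ.rangeRestrict φ.rangeRestrict_surjective
  obtain ⟨x, hx⟩ : ∃ x : R, Transcendental S' x := by
    by_contra hc
    push Not at hc
    have halg : Algebra.IsAlgebraic S' R := ⟨fun x => by simpa [Transcendental] using hc x⟩
    obtain ⟨n, hn, hdn⟩ := exists_trdeg_dim (k := k) S'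
    obtain ⟨m, hm, hdm⟩ := exists_trdeg_dim (k := k) R
    have := trdeg_add_eq k S' (A := R)
    rw [trdeg_eq_zero (R := S') (A := R), add_zero, hn, hm, Nat.cast_inj] at this
    subst this
    have hle := ringKrullDim_le_of_surjective φ.rangeRestrict.toRingHom φ.rangeRestrict_surjective
    rw [hdn, ← hdm] at hle
    exact absurd (hle.trans_lt hd) (lt_irrefl _)
  let f : Polynomial S' →ₐ[S'] R := Polynomial.aeval x
  algebraize [f.toRingHom]
  have hinj : Function.Injective (algebraMap (Polynomial S') R) := transcendental_iff_injective.1 hx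
  have : IsScalarTower k (Polynomial S') R := IsScalarTower.of_algebraMap_eq fun c => by
    show algebraMap k R c = f (algebraMap S' (Polynomial S') (algebraMap k S' c))
    rw [AlgHom.commutes]
    rfl
  have : Algebra.FiniteType (Polynomial S') R := Algebra.FiniteType.of_restrictScalars_finiteType k _ _
  obtain ⟨s, hs, hsub⟩ := Groth.FibreDim.exists_basicOpen_subset_range hinj
  have hlc : ¬IsNilpotent s.leadingCoeff := fun h => hs (Polynomial.leadingCoeff_eq_zero.1 h.eq_zero)
  obtain ⟨ψ, hψ⟩ := Groth.VarietyBC.exists_algHom_ne_zero (k := k) hlc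
  have hmap : s.map ψ.toRingHom ≠ 0 := fun e => hψ (by
    have := congrArg (fun p => Polynomial.coeff p s.natDegree) e
    simpa [Polynomial.coeff_map] using this)
  refine ⟨ψ.comp φ.rangeRestrict, ?_⟩
  have key : ∀ a ∈ {a : k | (s.map ψ.toRingHom).eval a ≠ 0},
      a ∈ (fun χ : R →ₐ[k] k => χ x) '' {χ | χ.comp φ = ψ.comp φ.rangeRestrict} := by
    intro a ha
    let P : Polynomial S' →+* k := Polynomial.eval₂RingHom ψ.toRingHom a
    have hs' : P s ≠ 0 := by
      show Polynomial.eval₂ ψ.toRingHom a s ≠ 0
      rw [← Polynomial.eval_map]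
      exact ha
    let M : PrimeSpectrum (Polynomial S') := ⟨RingHom.ker P, RingHom.ker_isPrime P⟩
    obtain ⟨p, hp⟩ := hsub (show M ∈ PrimeSpectrum.basicOpen s from hs')
    obtain ⟨N, hN, hpN⟩ := Ideal.exists_le_maximal p.asIdeal p.isPrime.ne_top
    have hPsurj : Function.Surjective P := fun c => ⟨Polynomial.C (algebraMap k S' c), by simp [P]⟩
    have hMmax : (RingHom.ker P).IsMaximal := RingHom.ker_isMaximal_of_surjective P hPsurj
    have hker : RingHom.ker P ≤ N.comap (algebraMap (Polynomial S') R) := by
      have : RingHom.ker P = p.asIdeal.comap (algebraMap (Polynomial S') R) :=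
        (congrArg PrimeSpectrum.asIdeal hp).symm
      rw [this]
      exact Ideal.comap_mono hpN
    obtain ⟨χ, hχ⟩ : ∃ χ : R →ₐ[k] k, RingHom.ker χ = N := by
      have : IsJacobsonRing R := isJacobsonRing_of_finiteType (A := k)
      let : Field (R ⧸ N) := Ideal.Quotient.field N
      have : Algebra.FiniteType k (R ⧸ N) :=
        Algebra.FiniteType.of_surjective (Ideal.Quotient.mkₐ k N) Ideal.Quotient.mk_surjective
      have : Module.Finite k (R ⧸ N) := finite_of_finite_type_of_isJacobsonRing k (R ⧸ N)
      have : Algebra.IsIntegral k (R ⧸ N) := inferInstance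
      let e : k ≃ₐ[k] R ⧸ N := AlgEquiv.ofBijective (Algebra.ofId k _)
        (IsAlgClosed.algebraMap_bijective_of_isIntegral (k := k) (K := R ⧸ N))
      refine ⟨e.symm.toAlgHom.comp (Ideal.Quotient.mkₐ k N), ?_⟩
      ext r
      simp [RingHom.mem_ker, Ideal.Quotient.eq_zero_iff_mem]
    have hagree : ∀ z : Polynomial S', χ (algebraMap _ R z) = P z := by
      intro z
      have hz : z - Polynomial.C (algebraMap k S' (P z)) ∈ RingHom.ker P := by simp [P, RingHom.mem_ker]
      have h2 := hker hz
      rw [Ideal.mem_comap, ← hχ, RingHom.mem_ker, map_sub, map_sub, sub_eq_zero] at h2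
      rw [h2]
      show χ (f (algebraMap S' (Polynomial S') (algebraMap k S' (P z)))) = P z
      rw [AlgHom.commutes]
      exact χ.commutes _
    refine ⟨χ, AlgHom.ext fun t => ?_, ?_⟩
    · have := hagree (Polynomial.C (φ.rangeRestrict t))
      rw [show algebraMap (Polynomial S') R (Polynomial.C (φ.rangeRestrict t)) = φ t from
        (Polynomial.aeval_C x _).trans rfl] at this
      simpa [P] using this
    · have := hagree Polynomial.X
      rw [show algebraMap (Polynomial S') R Polynomial.X = x from Polynomial.aeval_X x] at this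
      simpa [P] using this
  refine Set.Infinite.of_image _ (Set.Infinite.mono key ?_)
  have hfin : {a : k | (s.map ψ.toRingHom).eval a = 0}.Finite := Polynomial.finite_setOfPred_isRoot hmap
  exact hfin.infinite_compl

end Groth.Rosen
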