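import Groth.Agent.Rosenlicht.Theta
import Mathlib.RingTheory.Localization.FractionRing

/-!
Translations and the multiplication on function fields: for a chart `A` of `G` and a model `B ⊆ A`,
the homomorphisms `τ_h : K(G) → K(G)` and `mu : K(G) → Frac (A ⊗ B)`, and their compatibility.
-/

set_option autoImplicit false
universe u

open CategoryTheory MonoidalCategory CartesianMonoidalCategory MonObj GrpObj AlgebraicGeometry Filter
open Groth.Agf (Fn pull evalPt ptOf evalPt_ptOf)
open scoped TensorProduct Groth.Agf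

noncomputable section

namespace Groth.Rosen

/-- A map given by fractions satisfying a cross multiplication rule extends to a homomorphism. -/
theorem exists_fraction_hom {k R S M : Type u} [Field k] [CommRing R] [Algebra k R] [CommRing S] [IsDomain S]
    [Algebra k S] [Field M] [Algebra S M] [IsFractionRing S M] [Algebra k M] [IsScalarTower k S M]
    (Rel : R → S → S → Prop) (hex : ∀ a, ∃ p q, q ≠ 0 ∧ Rel a p q)
    (hcross : ∀ a p q p' q', Rel a p q → Rel a p' q' → p * q' = p' * q)
    (hadd : ∀ a a' p q p' q', Rel a p q → Rel a' p' q' → Rel (a + a') (p * q' + p' * q) (q * q'))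
    (hmul : ∀ a a' p q p' q', Rel a p q → Rel a' p' q' → Rel (a * a') (p * p') (q * q'))
    (hc : ∀ c : k, Rel (algebraMap k R c) (algebraMap k S c) 1) :
    ∃ f : R →ₐ[k] M, ∀ a p q, Rel a p q → f a * algebraMap S M q = algebraMap S M p := by
  choose P Q hQ hrel using hex
  have hu : ∀ q : S, q ≠ 0 → algebraMap S M q ≠ 0 := fun q hq h =>
    hq (IsFractionRing.injective S M (h.trans (map_zero _).symm))
  let f : R → M := fun a => algebraMap S M (P a) / algebraMap S M (Q a)
  have key : ∀ a p q, Rel a p q → f a * algebraMap S M q = algebraMap S M p := by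
    intro a p q h
    have e := congrArg (algebraMap S M) (hcross a _ _ _ _ (hrel a) h)
    rw [map_mul, map_mul] at e
    show algebraMap S M (P a) / algebraMap S M (Q a) * algebraMap S M q = _
    rw [div_mul_eq_mul_div, e, mul_div_assoc, div_self (hu _ (hQ a)), _root_.mul_one]
  have key' : ∀ a p q x, q ≠ 0 → Rel a p q → x * algebraMap S M q = algebraMap S M p → f a = x :=
    fun a p q x hq h hx => mul_right_cancel₀ (hu q hq) ((key a p q h).trans hx.symm)
  have hck : ∀ c : k, f (algebraMap k R c) = algebraMap k M c := fun c =>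
    key' _ _ _ _ one_ne_zero (hc c) (by rw [map_one, _root_.mul_one, IsScalarTower.algebraMap_apply k S M])
  exact ⟨{
    toFun := f
    map_one' := by simpa using hck 1
    map_zero' := by simpa using hck 0
    map_mul' := fun a b => key' _ _ _ _ (mul_ne_zero (hQ a) (hQ b)) (hmul _ _ _ _ _ _ (hrel a) (hrel b)) (by
      rw [map_mul, map_mul, _root_.mul_mul_mul_comm, key a _ _ (hrel a), key b _ _ (hrel b)])
    map_add' := fun a b => key' _ _ _ _ (mul_ne_zero (hQ a) (hQ b)) (hadd _ _ _ _ _ _ (hrel a) (hrel b)) (by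
      rw [add_mul, map_add, map_mul, map_mul, map_mul, ← key a _ _ (hrel a), ← key b _ _ (hrel b)]
      ring)
    commutes' := hck }, key⟩

variable {k : Type u} [Field k] [IsAlgClosed k] {G : Over (Spec (CommRingCat.of k))}
  [GrpObj G] [LocallyOfFiniteType G.hom] [QuasiCompact G.hom] [IsIntegral G.left]

namespace Chart

variable (c : Chart G)

/-- The function field. -/
abbrev K := FractionRing c.A

variable {c}

theorem algebraMap_K_ne_zero {a : c.A} (ha : a ≠ 0) : algebraMap c.A c.K a ≠ 0 :=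
  fun h => ha (IsFractionRing.injective c.A c.K (h.trans (map_zero _).symm))

variable (c)

/-- Translations act on the function field. -/
theorem exists_tau (h : VecGrp.pt k k ⟶ G) :
    ∃ τ : c.K →ₐ[k] c.K, ∀ a p q, c.toGen.Rat h a p q →
      τ (algebraMap c.A c.K a) * algebraMap c.A c.K q = algebraMap c.A c.K p := by
  obtain ⟨f, hf⟩ := exists_fraction_hom (k := k) (M := c.K) (fun a p q => c.toGen.Rat h a p q) (c.exists_rat h)
    (fun _ _ _ _ _ h1 h2 => h1.cross h2) (fun _ _ _ _ _ _ h1 h2 => h1.add h2)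
    (fun _ _ _ _ _ _ h1 h2 => h1.mul h2) (fun r => Gen.rat_const h r)
  have hinj : Function.Injective f := (injective_iff_map_eq_zero f).2 fun a ha => by
    by_contra h0
    obtain ⟨p, q, hq, hr⟩ := c.exists_rat h a
    have e := hf a p q hr
    rw [ha, zero_mul] at e
    exact hr.ne_zero h0 hq (IsFractionRing.injective c.A c.K (e.symm.trans (map_zero _).symm))
  refine ⟨IsFractionRing.liftAlgHom (K := c.K) hinj, fun a p q hr => ?_⟩
  rw [IsFractionRing.liftAlgHom_apply, IsFractionRing.lift_algebraMap]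
  exact hf a p q hr

/-- The translation on the function field. -/
def tau (h : VecGrp.pt k k ⟶ G) : c.K →ₐ[k] c.K := (c.exists_tau h).choose

variable {c}

theorem tau_rat {h : VecGrp.pt k k ⟶ G} {a p q : c.A} (hr : c.toGen.Rat h a p q) :
    c.tau h (algebraMap c.A c.K a) * algebraMap c.A c.K q = algebraMap c.A c.K p :=
  (c.exists_tau h).choose_spec a p q hr

theorem rat_of_tau {h : VecGrp.pt k k ⟶ G} {a p q : c.A}
    (e : c.tau h (algebraMap c.A c.K a) * algebraMap c.A c.K q = algebraMap c.A c.K p) :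
    c.toGen.Rat h a p q := by
  obtain ⟨p₀, q₀, hq₀, hr⟩ := c.exists_rat h a
  have e' : p * q₀ = p₀ * q := IsFractionRing.injective c.A c.K (by
    rw [map_mul, map_mul, ← e, ← tau_rat hr]; ring)
  filter_upwards [hr, c.toGen.eventually_ne _ hq₀] with x ex hx
  have e'' := congrArg (c.toGen.ev x) e'
  rw [map_mul, map_mul, ← ex] at e''
  exact mul_right_cancel₀ hx (by linear_combination (-1 : k) * e'')

theorem tau_inv (h : VecGrp.pt k k ⟶ G) (x : c.K) : c.tau h⁻¹ (c.tau h x) = x := by
  suffices hA : ∀ a : c.A, c.tau h⁻¹ (c.tau h (algebraMap c.A c.K a)) = algebraMap c.A c.K a by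
    obtain ⟨a, s, -, rfl⟩ := IsFractionRing.div_surjective (A := c.A) x
    rw [map_div₀, map_div₀, hA, hA]
  intro a
  obtain ⟨p, q, hq, hr⟩ := c.exists_rat h a
  obtain ⟨p₁, q₁, hq₁, hr₁⟩ := c.exists_rat h⁻¹ p
  obtain ⟨p₂, q₂, hq₂, hr₂⟩ := c.exists_rat h⁻¹ q
  have hc := hr.comp hr₁ hr₂
  rw [mul_inv_cancel] at hc
  have e := congrArg (algebraMap c.A c.K) ((Gen.rat_one a).cross hc)
  rw [map_mul, map_mul, map_mul, map_mul, map_one, _root_.mul_one] at e
  have e1 := congrArg (c.tau h⁻¹) (tau_rat hr)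
  rw [map_mul] at e1
  have e2 := tau_rat hr₁
  have e3 := tau_rat hr₂
  have hp₂ : algebraMap c.A c.K p₂ ≠ 0 := algebraMap_K_ne_zero (hr₂.ne_zero hq hq₂)
  refine mul_right_cancel₀ (mul_ne_zero hp₂ (algebraMap_K_ne_zero hq₁)) ?_
  rw [e, ← e2, ← e1, ← e3]
  ring

variable (c) in
theorem exists_mu {B : Subalgebra k c.A} [Algebra.FiniteType k B]
    (hfrac : ∀ a : c.A, ∃ p q : B, q ≠ 0 ∧ a * q = p) {M : Type u} [Field M] [Algebra (c.A ⊗[k] B) M]
    [IsFractionRing (c.A ⊗[k] B) M] [Algebra k M] [IsScalarTower k (c.A ⊗[k] B) M] :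
    ∃ mu : c.K →ₐ[k] M, ∀ a P Q, c.Rep a (jB B P) (jB B Q) →
      mu (algebraMap c.A c.K a) * algebraMap _ M Q = algebraMap _ M P := by
  have : IsDomain (c.A ⊗[k] B) := Groth.VarietyBC.isDomain_tensor
  obtain ⟨f, hf⟩ := exists_fraction_hom (k := k) (M := M) (fun a P Q => c.Rep a (jB B P) (jB B Q))
    (c.exists_rep_sub B hfrac)
    (fun _ P Q P' Q' h1 h2 => jB_injective B (by simpa [map_mul] using h1.cross h2))
    (fun _ _ P Q P' Q' h1 h2 => by simpa [map_mul, map_add] using h1.add h2)
    (fun _ _ P Q P' Q' h1 h2 => by simpa [map_mul] using h1.mul h2)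
    (fun r => by simpa using c.rep_const r)
  have hinj : Function.Injective f := (injective_iff_map_eq_zero f).2 fun a ha => by
    by_contra h0
    obtain ⟨P, Q, hQ, hr⟩ := c.exists_rep_sub B hfrac a
    have e := hf a P Q hr
    rw [ha, zero_mul] at e
    refine hr.ne_zero h0 (fun h => hQ (jB_injective B (h.trans (map_zero _).symm))) ?_
    rw [show P = 0 from IsFractionRing.injective (c.A ⊗[k] B) M (e.symm.trans (map_zero _).symm), map_zero]
  refine ⟨IsFractionRing.liftAlgHom (K := c.K) hinj, fun a P Q hr => ?_⟩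
  rw [IsFractionRing.liftAlgHom_apply, IsFractionRing.lift_algebraMap]
  exact hf a P Q hr

/-- A pair of pair-functions agreeing at general pairs of points are equal. -/
theorem eq_of_eventually_pr {B : Subalgebra k c.A} [Algebra.FiniteType k B] {z z' : c.A ⊗[k] B}
    (h : ∀ᶠ g in c.gen, ∀ᶠ x in c.gen, pr (c.ev g) ((c.ev x).comp B.val) z = pr (c.ev g) ((c.ev x).comp B.val) z') :
    z = z' := by
  rw [← sub_eq_zero]
  refine eq_zero_of_pr fun φ ψ => ?_
  rw [← comp_er]
  have he : er ψ (z - z') = 0 := by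
    refine c.toGen.eq_of_eventually ?_
    filter_upwards [h] with g hg
    have hsl : ((sl (c.ev g) (z - z') : B) : c.A) = 0 := c.toGen.eq_of_eventually (by
      filter_upwards [hg] with x hx
      show c.ev x _ = c.ev x 0
      rw [map_zero, show c.ev x ((sl (c.ev g) (z - z') : B) : c.A) =
        ((c.ev x).comp B.val) (sl (c.ev g) (z - z')) from rfl, comp_sl, map_sub, hx, sub_self])
    show c.ev g (er ψ (z - z')) = c.ev g 0
    rw [comp_er, ← comp_sl, show sl (c.ev g) (z - z') = 0 from Subtype.ext hsl, map_zero, map_zero]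
  rw [he, map_zero]

/-- Translation of the first factor. -/
theorem exists_translate_tensor (B : Subalgebra k c.A) (h : VecGrp.pt k k ⟶ G) (z : c.A ⊗[k] B) :
    ∃ (num : c.A ⊗[k] B) (d : c.A), d ≠ 0 ∧
      ∀ᶠ g in c.gen, ∀ ψ : B →ₐ[k] k, pr (c.ev (h * g)) ψ z * c.ev g d = pr (c.ev g) ψ num := by
  induction z using TensorProduct.induction_on with
  | zero => exact ⟨0, 1, one_ne_zero, Eventually.of_forall fun g ψ => by simp⟩
  | tmul a b =>
    obtain ⟨p, q, hq, hr⟩ := c.exists_rat h a
    refine ⟨p ⊗ₜ b, q, hq, ?_⟩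
    filter_upwards [hr] with g e ψ
    rw [pr_tmul, pr_tmul, ← (show c.ev (h * g) a * c.ev g q = c.ev g p from e)]
    ring
  | add z z' hz hz' =>
    obtain ⟨n, d, hd, hn⟩ := hz
    obtain ⟨n', d', hd', hn'⟩ := hz'
    refine ⟨n * (d' ⊗ₜ 1) + n' * (d ⊗ₜ 1), d * d', mul_ne_zero hd hd', ?_⟩
    filter_upwards [hn, hn'] with g e e' ψ
    rw [map_add, map_add, map_mul, map_mul, map_mul, ← e ψ, ← e' ψ, pr_tmul, pr_tmul, map_one]
    ring

/-- `Rep` at general pairs of points. -/
theorem Rep.eventually {a : c.A} {B : Subalgebra k c.A} {P Q : c.A ⊗[k] B} (h : c.Rep a (jB B P) (jB B Q))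
    {g : VecGrp.pt k k ⟶ G} (hg : rp g ∈ c.U) :
    ∀ᶠ x in c.gen, c.ev (g * x) a * pr (c.ev g) ((c.ev x).comp B.val) Q = pr (c.ev g) ((c.ev x).comp B.val) P := by
  filter_upwards [c.eventually_mem, c.gen_tendsto_mul g c.eventually_mem] with x hx hgx
  obtain ⟨g', rfl⟩ := exists_lift_opn g hg
  obtain ⟨x', rfl⟩ := exists_lift_opn x hx
  obtain ⟨y, hy⟩ := exists_lift_opn _ hgx
  have hy' : y ≫ opι G c.U = (g' ≫ opι G c.U) * (x' ≫ opι G c.U) := hy
  rw [← hy', ev_comp, ev_comp, ev_comp, ← pr_map, ← pr_map]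
  exact h g' x' y hy'.symm

end Chart

end Groth.Rosen
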