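import Groth.Agent.Rosenlicht.Points

/-! A function on rational points which is locally a fraction of regular functions is regular. -/

set_option autoImplicit false
universe u

open CategoryTheory Opposite AlgebraicGeometry TopologicalSpace
open Groth.Agf (Fn pull evalPt evalPt_apply ptFn)
open Groth.AlgGrp1 (exists_point_mem_open fn_ext_points)
open scoped Groth.Agf

noncomputable section

namespace Groth.Rosen

variable {k : Type u} [Field k] [IsAlgClosed k] {X : Over (Spec (CommRingCat.of k))}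

/-- The value at a point of a section. -/
def secVal {V : X.left.Opens} (y : VecGrp.pt k k ⟶ X) (h : rp y ∈ V) : Γ(X.left, V) →+* k :=
  (ptFn (k := k) k).toRingHom.comp (y.left.appLE V ⊤ (fun p _ => by
    show y.left.base p ∈ V
    rwa [Subsingleton.elim (α := ↥(Spec (CommRingCat.of k))) p (IsLocalRing.closedPoint k)])).hom

theorem secVal_res {V W : X.left.Opens} (hWV : W ≤ V) (y : VecGrp.pt k k ⟶ X) (h : rp y ∈ W)
    (s : Γ(X.left, V)) :
    secVal y h (X.left.presheaf.map (homOfLE hWV).op s) = secVal y (hWV h) s := by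
  show ptFn k ((X.left.presheaf.map (homOfLE hWV).op ≫ y.left.appLE W ⊤ _) s) = _
  rw [Scheme.Hom.map_appLE]
  rfl

theorem secVal_top (y : VecGrp.pt k k ⟶ X) (f : Fn X) :
    secVal (V := ⊤) y trivial f = evalPt y f := by
  show ptFn k (y.left.appLE ⊤ ⊤ _ f) = _
  show ptFn k (y.left.appLE ⊤ ⊤ le_rfl f) = ptFn k (y.left.appTop f)
  exact congrArg (ptFn k) (DFunLike.congr_fun (congrArg CommRingCat.Hom.hom (Scheme.Hom.app_eq_appLE y.left (U := ⊤)).symm) f)

theorem secVal_opn {V : X.left.Opens} (y : VecGrp.pt k k ⟶ opn X V) (a : Fn (opn X V)) :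
    secVal (y ≫ opι X V) (rp_opι y) (V.topIso.hom a) = evalPt y a := by
  show ptFn k ((V.topIso.hom ≫ (y.left ≫ V.ι).appLE V ⊤ _) a) = ptFn k (y.left.appTop a)
  have e : V.topIso.hom ≫ (y.left ≫ V.ι).appLE V ⊤ (fun p _ => (y.left.base p).2) = y.left.appTop := by
    have hle : (⊤ : V.toScheme.Opens) ≤ V.ι ⁻¹ᵁ V := fun p _ => p.2
    rw [← Scheme.Hom.appLE_comp_appLE (f := y.left) (g := V.ι) (U := V) (V := ⊤) (W := ⊤) (e₁ := hle)
      (e₂ := le_rfl), Scheme.Opens.ι_appLE, Scheme.Opens.topIso_hom]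
    refine (Category.assoc _ _ _).symm.trans ?_
    refine (congrArg (fun f => f ≫ y.left.appLE ⊤ ⊤ le_rfl)
      ((X.left.presheaf.map_comp _ _).symm.trans (congrArg X.left.presheaf.map
        (Subsingleton.elim _ (𝟙 _))))).trans ?_
    erw [CategoryTheory.Functor.map_id, Category.id_comp]
    exact (Scheme.Hom.app_eq_appLE y.left (U := ⊤)).symm
  exact congrArg (ptFn k) (DFunLike.congr_fun (congrArg CommRingCat.Hom.hom e) a)

variable [LocallyOfFiniteType X.hom] [IsReduced X.left]

/-- Sections are determined by their values. -/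
theorem sec_ext {V : X.left.Opens} {s t : Γ(X.left, V)}
    (h : ∀ y (hy : rp y ∈ V), secVal (k := k) y hy s = secVal y hy t) : s = t := by
  have : LocallyOfFiniteType (opn X V).hom := inferInstanceAs (LocallyOfFiniteType (V.ι ≫ X.hom))
  have : IsReduced (opn X V).left := isReduced_of_isOpenImmersion V.ι
  have hinj : Function.Injective V.topIso.inv := V.topIso.symm.commRingCatIsoToRingEquiv.injective
  apply hinj
  refine fn_ext_points (X := opn X V) fun y => ?_
  have e : ∀ s : Γ(X.left, V), V.topIso.hom (V.topIso.inv s) = s := fun s =>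
    congrArg (fun f : Γ(X.left, V) ⟶ Γ(X.left, V) => f s) V.topIso.inv_hom_id
  rw [← secVal_opn, ← secVal_opn, e, e]
  exact h _ _

/-- **Gluing**. -/
theorem exists_fn_of_locally (val : (VecGrp.pt k k ⟶ X) → k)
    (h : ∀ y : VecGrp.pt k k ⟶ X, ∃ (V : X.left.Opens) (num den : Fn (opn X V)) (z : VecGrp.pt k k ⟶ opn X V),
      z ≫ opι X V = y ∧ evalPt z den ≠ 0 ∧
        ∀ z' : VecGrp.pt k k ⟶ opn X V, evalPt z' den ≠ 0 →
          val (z' ≫ opι X V) * evalPt z' den = evalPt z' num) :
    ∃ f : Fn X, ∀ y, evalPt y f = val y := by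
  classical
  choose V num den z hz hden hval using h
  let D : ∀ y, Γ(X.left, V y) := fun y => (V y).topIso.hom (den y)
  let W : (VecGrp.pt k k ⟶ X) → X.left.Opens := fun y => X.left.basicOpen (D y)
  have hWV : ∀ y, W y ≤ V y := fun y => X.left.basicOpen_le _
  have hunit : ∀ y, IsUnit (X.left.presheaf.map (homOfLE (hWV y)).op (D y)) := fun y =>
    RingedSpace.isUnit_res_basicOpen X.left.toRingedSpace (D y)
  have hyV : ∀ y, rp y ∈ V y := fun y => by
    have := rp_opι (z y); rwa [hz] at this
  have hmem : ∀ y, rp y ∈ W y := by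
    intro y
    have hv : secVal y (hyV y) (D y) ≠ 0 := by
      have := secVal_opn (z y) (den y)
      simp only [hz] at this
      rw [this]
      exact hden y
    by_contra hn
    refine hv ?_
    have h1 : IsLocalRing.closedPoint k ∉ y.left ⁻¹ᵁ W y := hn
    rw [Scheme.preimage_basicOpen] at h1
    have hbot : (VecGrp.pt k k).left.basicOpen (y.left.app (V y) (D y)) = ⊥ :=
      eq_bot_iff.2 fun p hp => h1 (Subsingleton.elim (α := ↥(Spec (CommRingCat.of k))) p
        (IsLocalRing.closedPoint k) ▸ hp)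
    show ptFn k ((y.left.app (V y) ≫ (VecGrp.pt k k).left.presheaf.map _) (D y)) = 0
    have : IsReduced (VecGrp.pt k k).left := inferInstanceAs (IsReduced (Spec (CommRingCat.of k)))
    rw [CommRingCat.comp_apply, (basicOpen_eq_bot_iff (X := (VecGrp.pt k k).left) _).1 hbot, map_zero, map_zero]
  let g : ∀ y, Γ(X.left, W y) := fun y =>
    X.left.presheaf.map (homOfLE (hWV y)).op ((V y).topIso.hom (num y)) * ↑(hunit y).unit⁻¹
  have hg : ∀ y y' (hy' : rp y' ∈ W y), secVal y' hy' (g y) = val y' := by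
    intro y y' hy'
    obtain ⟨z', rfl⟩ := exists_lift_opn y' (hWV y hy')
    have e : g y * X.left.presheaf.map (homOfLE (hWV y)).op (D y) =
        X.left.presheaf.map (homOfLE (hWV y)).op ((V y).topIso.hom (num y)) := by
      simp only [g]
      rw [_root_.mul_assoc, IsUnit.val_inv_mul, _root_.mul_one]
    have e' := congrArg (secVal (z' ≫ opι X (V y)) hy') e
    rw [map_mul, secVal_res, secVal_res, secVal_opn, secVal_opn] at e'
    have hd : evalPt z' (den y) ≠ 0 := by
      rw [← secVal_opn, ← secVal_res (hWV y) (z' ≫ opι X (V y)) hy']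
      exact (RingHom.isUnit_map (secVal (z' ≫ opι X (V y)) hy') (hunit y)).ne_zero
    exact mul_right_cancel₀ hd (e'.trans (hval y z' hd).symm)
  have hcov : (⊤ : X.left.Opens) ≤ iSup W := by
    have := LocallyOfFiniteType.jacobsonSpace X.hom
    intro p _
    by_contra hp
    obtain ⟨q, hq, hqc⟩ := nonempty_inter_closedPoints (Z := ((iSup W : X.left.Opens) : Set X.left)ᶜ)
      ⟨p, hp⟩ (iSup W).2.isClosed_compl.isLocallyClosed
    obtain ⟨y, hy⟩ := Groth.AlgGrp1.exists_point_over_closed k X q hqc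
    exact hq (hy ▸ Opens.mem_iSup.2 ⟨y, hmem y⟩)
  obtain ⟨f, hf, -⟩ := X.left.sheaf.existsUnique_gluing' W ⊤ (fun y => homOfLE le_top) hcov g (fun a b =>
    sec_ext fun y hy => by
      exact (secVal_res inf_le_left y hy (g a)).trans ((hg a y hy.1).trans ((hg b y hy.2).symm.trans
        (secVal_res inf_le_right y hy (g b)).symm)))
  refine ⟨f, fun y => ?_⟩
  rw [← secVal_top, ← hg y y (hmem y), ← secVal_res (le_top : W y ≤ ⊤) y (hmem y)]
  exact congrArg (secVal y (hmem y)) (hf y)

end Groth.Rosen
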