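import Mathlib.RingTheory.Valuation.ValuationSubring
import Mathlib.RingTheory.AlgebraicIndependent.TranscendenceBasis
import Mathlib.RingTheory.AlgebraicIndependent.Transcendental
import Mathlib.RingTheory.LocalRing.ResidueField.Basic
import Mathlib.RingTheory.NoetherNormalization
import Mathlib.RingTheory.Flat.Basic
import Mathlib.RingTheory.TensorProduct.MvPolynomial

/-!
Residue fields of the restriction of a valuation: the residue transcendence degree drops by at most
the transcendence degree of the field extension.  Transcendence degree of tensor products.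
-/

set_option autoImplicit false
universe u

open scoped TensorProduct

noncomputable section

namespace Groth.Rosen

open IsLocalRing

variable {k K L : Type u} [Field k] [Field K] [Field L] [Algebra k K] [Algebra k L]

/-- Many independent residues upstairs give independent residues downstairs. -/
theorem exists_indep_residues (f : K →ₐ[k] L) (V : ValuationSubring L) (hk : ∀ c : k, algebraMap k L c ∈ V)
    {N n m : ℕ} (y : Fin N → V)
    (hy : ∀ P : MvPolynomial (Fin N) k, P ≠ 0 → V.valuation (MvPolynomial.aeval (fun i => (y i : L)) P) = 1)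
    (hL : ∀ s : Set L, @AlgebraicIndependent _ K L (Subtype.val : s → L) _ _ f.toRingHom.toAlgebra →
      Cardinal.mk s ≤ n)
    (hNm : n + m ≤ N) :
    ∃ x : Fin m → K, ∀ P : MvPolynomial (Fin m) k, P ≠ 0 → V.valuation (f (MvPolynomial.aeval x P)) = 1 := by
  classical
  letI : Algebra K L := f.toRingHom.toAlgebra
  let W : ValuationSubring K := V.comap f.toRingHom
  have hkW : ∀ c : k, algebraMap k K c ∈ W := fun c => by
    show f (algebraMap k K c) ∈ V
    rw [f.commutes]; exact hk c
  letI : Algebra k V := ((algebraMap k L).codRestrict V.toSubring hk).toAlgebra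
  letI : Algebra k W := ((algebraMap k K).codRestrict W.toSubring hkW).toAlgebra
  let g : W →+* V := (f.toRingHom.comp W.subtype).codRestrict V.toSubring fun x => x.2
  have hg : IsLocalHom g := ⟨fun x hx => by
    obtain ⟨u, hu⟩ := hx
    have hx0 : (x : K) ≠ 0 := fun h => by
      have : (g x : L) = 0 := by show f (x : K) = 0; rw [h, map_zero]
      rw [← hu] at this
      exact u.ne_zero (Subtype.ext this)
    have hinv : f ((x : K)⁻¹) ∈ V := by
      have h1 : ((↑u⁻¹ : V) : L) * ((u : V) : L) = 1 := congrArg Subtype.val u.inv_mul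
      rw [map_inv₀, ← show ((u : V) : L) = f (x : K) from congrArg Subtype.val hu, ← eq_inv_of_mul_eq_one_left h1]
      exact (↑u⁻¹ : V).2
    exact IsUnit.of_mul_eq_one (⟨_, hinv⟩ : W) (Subtype.ext (mul_inv_cancel₀ hx0))⟩
  let κW := ResidueField W
  let κV := ResidueField V
  letI : Algebra κW κV := (ResidueField.map g).toAlgebra
  have : IsScalarTower k κW κV := IsScalarTower.of_algebraMap_eq fun c => by
    show residue V (algebraMap k V c) = ResidueField.map g (residue W (algebraMap k W c))
    rw [ResidueField.map_residue]
    congr 1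
    exact Subtype.ext (f.commutes c).symm
  have hub : Algebra.trdeg κW κV ≤ (n : Cardinal) := by
    refine ciSup_le' fun ⟨s, hs⟩ => ?_
    choose l hl using fun z : s => residue_surjective (R := V) (z : κV)
    have hli : AlgebraicIndependent K (fun z : s => (l z : L)) := by
      rw [algebraicIndependent_iff]
      intro P hP
      by_contra hP0
      obtain ⟨d₀, hd₀, hmax⟩ := Finset.exists_max_image P.support (fun d => W.valuation (P.coeff d))
        (MvPolynomial.support_nonempty.2 hP0)
      have hc0 : P.coeff d₀ ≠ 0 := MvPolynomial.mem_support_iff.1 hd₀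
      have hmem : ∀ d, P.coeff d / P.coeff d₀ ∈ W := fun d => by
        rw [← ValuationSubring.valuation_le_one_iff, map_div₀]
        refine div_le_one_of_le₀ ?_ zero_le
        by_cases hd : d ∈ P.support
        · exact hmax d hd
        · rw [MvPolynomial.notMem_support_iff.1 hd, map_zero]; exact zero_le
      let Q : MvPolynomial s W := ∑ d ∈ P.support, MvPolynomial.monomial d (⟨_, hmem d⟩ : W)
      have hQcoeff : ∀ d ∈ P.support, ((Q.coeff d : W) : K) = P.coeff d / P.coeff d₀ := fun d hd => by
        rw [MvPolynomial.coeff_sum, Finset.sum_eq_single d (fun e _ he => by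
          rw [MvPolynomial.coeff_monomial, if_neg he]) (fun h => absurd hd h), MvPolynomial.coeff_monomial, if_pos rfl]
      have hQ1 : Q.coeff d₀ = 1 := Subtype.ext (by rw [hQcoeff d₀ hd₀, div_self hc0]; rfl)
      have hmap : MvPolynomial.map W.subtype Q = MvPolynomial.C (P.coeff d₀)⁻¹ * P := by
        conv_rhs => arg 2; rw [P.as_sum]
        rw [map_sum, Finset.mul_sum]
        refine Finset.sum_congr rfl fun d _ => ?_
        rw [MvPolynomial.map_monomial, MvPolynomial.C_mul_monomial, ← div_eq_inv_mul (P.coeff d) (P.coeff d₀)]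
        rfl
      have hzero : MvPolynomial.eval₂ g (fun z => l z) Q = 0 := by
        apply Subtype.ext
        show V.subtype (MvPolynomial.eval₂ g (fun z => l z) Q) = 0
        rw [MvPolynomial.eval₂_comp_left, show V.subtype.comp g = (algebraMap K L).comp W.subtype from rfl,
          ← MvPolynomial.eval₂_map, hmap]
        show MvPolynomial.aeval (fun z : s => (l z : L)) (MvPolynomial.C (P.coeff d₀)⁻¹ * P) = 0
        rw [map_mul, hP, mul_zero]
      have hres : MvPolynomial.aeval (Subtype.val : s → κV) (MvPolynomial.map (residue W) Q) = 0 := by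
        rw [MvPolynomial.aeval_def, MvPolynomial.eval₂_map]
        have := congrArg (residue V) hzero
        rw [MvPolynomial.eval₂_comp_left, map_zero] at this
        rw [← this]
        congr 1
        funext z; exact (hl z).symm
      have h0 := (algebraicIndependent_iff.1 hs) _ hres
      have := congrArg (MvPolynomial.coeff d₀) h0
      rw [MvPolynomial.coeff_map, hQ1, map_one, MvPolynomial.coeff_zero] at this
      exact one_ne_zero this
    have hinj : Function.Injective (fun z : s => (l z : L)) := hli.injective
    have := hL _ hli.to_subtype_range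
    rwa [Cardinal.mk_range_eq _ hinj] at this
  have hup : (N : Cardinal) ≤ Algebra.trdeg k κV := by
    let e : Fin N → κV := fun i => residue V (y i)
    have he : AlgebraicIndependent k e := by
      rw [algebraicIndependent_iff]
      intro P hP
      by_contra hP0
      have hcoe : ((MvPolynomial.aeval y P : V) : L) = MvPolynomial.aeval (fun i => (y i : L)) P := by
        show V.subtype _ = _
        rw [MvPolynomial.aeval_def, MvPolynomial.eval₂_comp_left, MvPolynomial.aeval_def]
        rfl
      have h1 : IsUnit (MvPolynomial.aeval y P : V) := (V.valuation_eq_one_iff _).2 (hcoe ▸ hy P hP0)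
      have h2 : residue V (MvPolynomial.aeval y P) = 0 := by
        rw [← hP, MvPolynomial.aeval_def, MvPolynomial.eval₂_comp_left, MvPolynomial.aeval_def]
        rfl
      exact residue_ne_zero_iff_isUnit _ |>.2 h1 h2
    simpa using he.lift_cardinalMk_le_trdeg
  have htower : Algebra.trdeg k κW + Algebra.trdeg κW κV = Algebra.trdeg k κV := trdeg_add_eq k κW
  have hm : (m : Cardinal) ≤ Algebra.trdeg k κW := by
    by_contra hlt
    rw [not_le] at hlt
    obtain ⟨r, hr⟩ := Cardinal.lt_aleph0.1 (hlt.trans (Cardinal.natCast_lt_aleph0))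
    have h3 : (N : Cardinal) ≤ r + n := hup.trans (htower ▸ hr ▸ add_le_add le_rfl hub)
    rw [hr, Nat.cast_lt] at hlt
    rw [← Nat.cast_add, Nat.cast_le] at h3
    omega
  obtain ⟨s, hs⟩ := exists_isTranscendenceBasis k κW
  rw [← hs.cardinalMk_eq_trdeg] at hm
  obtain ⟨emb⟩ : Nonempty (Fin m ↪ s) := Cardinal.lift_mk_le'.1 (by simpa using hm)
  choose x hx using fun i => residue_surjective (R := W) ((emb i : s) : κW)
  refine ⟨fun i => (x i : K), fun P hP => ?_⟩
  have hne : residue W (MvPolynomial.aeval x P) ≠ 0 := by
    intro h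
    have h2 : MvPolynomial.aeval (fun i => ((emb i : s) : κW)) P = 0 := by
      rw [← h, MvPolynomial.aeval_def, MvPolynomial.aeval_def, MvPolynomial.eval₂_comp_left]
      congr 1
      funext i; exact (hx i).symm
    exact hP ((algebraicIndependent_iff.1 (hs.1.comp emb emb.injective)) P h2)
  have hu : IsUnit (g (MvPolynomial.aeval x P)) := ((residue_ne_zero_iff_isUnit _).1 hne).map g
  have hcoe : ((g (MvPolynomial.aeval x P) : V) : L) = f (MvPolynomial.aeval (fun i => (x i : K)) P) := by
    show f (W.subtype _) = _
    rw [MvPolynomial.aeval_def, MvPolynomial.eval₂_comp_left, MvPolynomial.aeval_def]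
    rfl
  rw [← hcoe]
  exact (V.valuation_eq_one_iff _).1 hu

variable {A B : Type u} [CommRing A] [CommRing B] [Algebra k A] [Algebra k B]

/-- Noether normalisations of two factors normalise the tensor product. -/
theorem exists_normalization_tensor [Nontrivial A] [Nontrivial B] [Algebra.FiniteType k A] [Algebra.FiniteType k B] :
    ∃ (a b : ℕ) (φ : MvPolynomial (Fin a) k →ₐ[k] A) (ψ : MvPolynomial (Fin b) k →ₐ[k] B),
      Function.Injective φ ∧ φ.toRingHom.IsIntegral ∧ Function.Injective ψ ∧ ψ.toRingHom.IsIntegral ∧
      Function.Injective (Algebra.TensorProduct.map φ ψ) ∧ (Algebra.TensorProduct.map φ ψ).toRingHom.IsIntegral := by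
  obtain ⟨a, φ, hφ, hφi⟩ := exists_integral_inj_algHom_of_fg k A
  obtain ⟨b, ψ, hψ, hψi⟩ := exists_integral_inj_algHom_of_fg k B
  refine ⟨a, b, φ, ψ, hφ, hφi, hψ, hψi, ?_, fun z => ?_⟩
  · have e : Algebra.TensorProduct.map φ ψ = (Algebra.TensorProduct.map φ (AlgHom.id k B)).comp
        (Algebra.TensorProduct.map (AlgHom.id k _) ψ) := by ext <;> simp
    rw [e, AlgHom.coe_comp]
    exact (Module.Flat.rTensor_preserves_injective_linearMap (M := B) φ.toLinearMap hφ).comp
      (Module.Flat.lTensor_preserves_injective_linearMap (M := MvPolynomial (Fin a) k) ψ.toLinearMap hψ)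
  · induction z using TensorProduct.induction_on with
    | zero => exact RingHom.isIntegralElem_zero _
    | tmul x y =>
      have hx : (Algebra.TensorProduct.map φ ψ).toRingHom.IsIntegralElem (x ⊗ₜ[k] (1 : B)) := by
        obtain ⟨p, hm, hp⟩ := hφi x
        refine ⟨p.map Algebra.TensorProduct.includeLeftRingHom, hm.map _, ?_⟩
        rw [Polynomial.eval₂_map]
        have e : (Algebra.TensorProduct.map φ ψ).toRingHom.comp Algebra.TensorProduct.includeLeftRingHom =
            (Algebra.TensorProduct.includeLeftRingHom : A →+* A ⊗[k] B).comp φ.toRingHom :=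
          RingHom.ext fun r => by simp
        rw [e, show (x ⊗ₜ[k] (1 : B)) = (Algebra.TensorProduct.includeLeftRingHom : A →+* A ⊗[k] B) x from rfl,
          ← Polynomial.hom_eval₂]
        exact (congrArg _ hp).trans (map_zero _)
      have hy : (Algebra.TensorProduct.map φ ψ).toRingHom.IsIntegralElem ((1 : A) ⊗ₜ[k] y) := by
        obtain ⟨p, hm, hp⟩ := hψi y
        refine ⟨p.map (Algebra.TensorProduct.includeRight (R := k) (A := MvPolynomial (Fin a) k)).toRingHom, hm.map _, ?_⟩
        rw [Polynomial.eval₂_map]
        have e : (Algebra.TensorProduct.map φ ψ).toRingHom.comp (Algebra.TensorProduct.includeRight (R := k) (A := MvPolynomial (Fin a) k)).toRingHom =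
            (Algebra.TensorProduct.includeRight (R := k) (A := A) (B := B)).toRingHom.comp ψ.toRingHom :=
          RingHom.ext fun r => by simp
        rw [e, show ((1 : A) ⊗ₜ[k] y) = (Algebra.TensorProduct.includeRight (R := k) (A := A) (B := B)).toRingHom y from rfl,
          ← Polynomial.hom_eval₂]
        exact (congrArg _ hp).trans (map_zero _)
      have := RingHom.IsIntegralElem.mul _ hx hy
      rwa [Algebra.TensorProduct.tmul_mul_tmul, mul_one, one_mul] at this
    | add x y hx hy => exact RingHom.IsIntegralElem.add _ hx hy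

/-- The transcendence degree of a tensor product of finitely generated domains. -/
theorem trdeg_tensor [IsDomain A] [IsDomain B] [IsDomain (A ⊗[k] B)] [Algebra.FiniteType k A]
    [Algebra.FiniteType k B] {a b : ℕ} (ha : Algebra.trdeg k A = a) (hb : Algebra.trdeg k B = b) :
    Algebra.trdeg k (A ⊗[k] B) = (a + b : ℕ) ∧ ∃ y : Fin (a + b) → A ⊗[k] B, AlgebraicIndependent k y := by
  obtain ⟨a', b', φ, ψ, hφ, hφi, hψ, hψi, hinj, hint⟩ := exists_normalization_tensor (k := k) (A := A) (B := B)
  have key : ∀ {R : Type u} [CommRing R] [IsDomain R] [Algebra k R] {σ : Type} [Fintype σ]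
      (θ : MvPolynomial σ k →ₐ[k] R), Function.Injective θ → θ.toRingHom.IsIntegral →
      Algebra.trdeg k R = Fintype.card σ := by
    intro R _ _ _ σ _ θ hθ hθi
    letI := θ.toRingHom.toAlgebra
    have : Algebra.IsIntegral (MvPolynomial σ k) R := ⟨hθi⟩
    have : FaithfulSMul (MvPolynomial σ k) R := (faithfulSMul_iff_algebraMap_injective _ _).2 hθ
    have : IsScalarTower k (MvPolynomial σ k) R := IsScalarTower.of_algebraMap_eq fun c => (θ.commutes c).symm
    rw [← trdeg_add_eq k (MvPolynomial σ k) (A := R), trdeg_eq_zero (R := MvPolynomial σ k) (A := R), add_zero,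
      MvPolynomial.trdeg_of_isDomain]
    simp
  obtain rfl : a' = a := by
    have := (key φ hφ hφi).symm.trans ha
    simpa using this
  obtain rfl : b' = b := by
    have := (key ψ hψ hψi).symm.trans hb
    simpa using this
  let e := MvPolynomial.sumAlgEquiv k (Fin a') (Fin b')
  let e' : MvPolynomial (Fin a') k ⊗[k] MvPolynomial (Fin b') k ≃ₐ[k] MvPolynomial (Fin a' ⊕ Fin b') k :=
    MvPolynomial.tensorEquivSum k (Fin a') (Fin b') k
  let θ := (Algebra.TensorProduct.map φ ψ).comp e'.symm.toAlgHom
  have hθ : Function.Injective θ := hinj.comp e'.symm.injective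
  refine ⟨?_, ⟨fun i => θ (MvPolynomial.X (finSumFinEquiv.symm i)), ?_⟩⟩
  · rw [key θ hθ (RingHom.IsIntegral.trans _ _ (RingHom.isIntegral_of_surjective _ e'.symm.surjective) hint)]
    simp
  · exact ((MvPolynomial.algebraicIndependent_X _ k).comp _ finSumFinEquiv.symm.injective).map'
      (f := θ) hθ

end Groth.Rosen
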