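import Groth.Agent.Rosenlicht.Product
import Groth.Agent.Rosenlicht.ValExt

/-! The valuation of `A ⊗ B` along `Spec A × V(P)`, and its residues. -/

set_option autoImplicit false
universe u

open scoped TensorProduct

noncomputable section

namespace Groth.Rosen

section Val

variable {T M : Type u} [CommRing T] [IsDomain T] [Field M] [Algebra T M] [IsFractionRing T M]
  (P : Ideal T) [P.IsPrime]

theorem algebraMap_ne_zero_of_notMem {q : T} (hq : q ∉ P) : algebraMap T M q ≠ 0 := fun h =>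
  hq ((IsFractionRing.injective T M (h.trans (map_zero _).symm)) ▸ P.zero_mem)

/-- A prime with totally ordered local ring gives a valuation ring of the fraction field. -/
theorem exists_valuation
    (htot : ∀ z s : T, ∃ Q ∉ P, (∃ u, z * Q = s * u) ∨ (∃ u, s * Q = z * u)) :
    ∃ V : ValuationSubring M, ∀ x, x ∈ V ↔ ∃ u q : T, q ∉ P ∧ x * algebraMap T M q = algebraMap T M u := by
  have hP := ‹P.IsPrime›
  let R₀ : Subring M :=
    { carrier := {x | ∃ u q : T, q ∉ P ∧ x * algebraMap T M q = algebraMap T M u}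
      one_mem' := ⟨1, 1, hP.one_notMem, by simp⟩
      zero_mem' := ⟨0, 1, hP.one_notMem, by simp⟩
      mul_mem' := fun {x y} ⟨u, q, hq, e⟩ ⟨u', q', hq', e'⟩ => ⟨u * u', q * q', hP.mul_notMem hq hq', by
        rw [map_mul, map_mul, ← e, ← e']; ring⟩
      add_mem' := fun {x y} ⟨u, q, hq, e⟩ ⟨u', q', hq', e'⟩ => ⟨u * q' + u' * q, q * q', hP.mul_notMem hq hq', by
        rw [map_mul, map_add, map_mul, map_mul, ← e, ← e']; ring⟩
      neg_mem' := fun {x} ⟨u, q, hq, e⟩ => ⟨-u, q, hq, by rw [map_neg, neg_mul, e]⟩ }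
  refine ⟨{ R₀ with mem_or_inv_mem' := fun x => ?_ }, fun x => Iff.rfl⟩
  obtain ⟨z, s, hs, rfl⟩ := IsFractionRing.div_surjective (A := T) x
  have hs0 : algebraMap T M s ≠ 0 := IsFractionRing.to_map_ne_zero_of_mem_nonZeroDivisors hs
  by_cases hz0 : z = 0
  · subst hz0
    left
    exact ⟨0, 1, hP.one_notMem, by simp⟩
  have hz : algebraMap T M z ≠ 0 := fun h => hz0 (IsFractionRing.injective T M (h.trans (map_zero _).symm))
  obtain ⟨Q, hQ, hc⟩ := htot z s
  rcases hc with ⟨u, hu⟩ | ⟨u, hu⟩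
  · left
    refine ⟨u, Q, hQ, ?_⟩
    rw [div_mul_eq_mul_div, div_eq_iff hs0, ← map_mul, hu, map_mul, mul_comm]
  · right
    refine ⟨u, Q, hQ, ?_⟩
    rw [inv_div, div_mul_eq_mul_div, div_eq_iff hz, ← map_mul, hu, map_mul, mul_comm]

theorem valuation_eq_one {V : ValuationSubring M}
    (hV : ∀ x, x ∈ V ↔ ∃ u q : T, q ∉ P ∧ x * algebraMap T M q = algebraMap T M u) {z : T} (hz : z ∉ P) :
    V.valuation (algebraMap T M z) = 1 := by
  have hne := algebraMap_ne_zero_of_notMem (M := M) P hz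
  have hmem : algebraMap T M z ∈ V := (hV _).2 ⟨z, 1, ‹P.IsPrime›.one_notMem, by simp⟩
  refine le_antisymm ((V.valuation_le_one_iff _).2 hmem) ?_
  have hi : (algebraMap T M z)⁻¹ ∈ V := (hV _).2 ⟨1, z, hz, by rw [map_one, inv_mul_cancel₀ hne]⟩
  have := (V.valuation_le_one_iff _).2 hi
  rwa [map_inv₀, inv_le_one₀] at this
  exact zero_lt_iff.2 ((Valuation.ne_zero_iff _).2 hne)

end Val

variable {k : Type u} [Field k] [IsAlgClosed k] {A B K M : Type u} [CommRing A] [CommRing B] [IsDomain A] [IsDomain B]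
  [Algebra k A] [Algebra k B] [Algebra.FiniteType k A] [Algebra.FiniteType k B] [Field K] [Algebra k K]
  [Field M] [Algebra k M] [Algebra (A ⊗[k] B) M] [IsFractionRing (A ⊗[k] B) M] [IsScalarTower k (A ⊗[k] B) M]

/-- Independent residues of the valuation restricted along `mu`. -/
theorem exists_residues (mu : K →ₐ[k] M) (P : Ideal B) [P.IsPrime] (V : ValuationSubring M)
    (hV : ∀ x, x ∈ V ↔ ∃ u q : A ⊗[k] B, q ∉ prodPrime A (k := k) P ∧
      x * algebraMap (A ⊗[k] B) M q = algebraMap (A ⊗[k] B) M u)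
    {n m : ℕ} (hA : Algebra.trdeg k A = n) (hB : Algebra.trdeg k B = n) (hK : Algebra.trdeg k K = n)
    (hBP : Algebra.trdeg k (B ⧸ P) = m) :
    ∃ f : Fin m → K, ∀ p : MvPolynomial (Fin m) k, p ≠ 0 → (V.comap mu.toRingHom).valuation (MvPolynomial.aeval f p) = 1 := by
  have hP₀ := prodPrime_isPrime (k := k) (R := A) P
  have : IsDomain (A ⊗[k] B) := Groth.VarietyBC.isDomain_tensor
  have : IsDomain (A ⊗[k] (B ⧸ P)) := Groth.VarietyBC.isDomain_tensor
  have : Algebra.FiniteType k (B ⧸ P) :=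
    Algebra.FiniteType.of_surjective (Ideal.Quotient.mkₐ k P) Ideal.Quotient.mk_surjective
  obtain ⟨-, yb, hyb⟩ := trdeg_tensor (k := k) (A := A) (B := B ⧸ P) hA hBP
  let π := Algebra.TensorProduct.map (AlgHom.id k A) (Ideal.Quotient.mkₐ k P)
  have hπ : Function.Surjective π := by
    show Function.Surjective (TensorProduct.map _ _)
    exact TensorProduct.map_surjective Function.surjective_id Ideal.Quotient.mk_surjective
  choose y hy using fun i => hπ (yb i)
  let yV : Fin (n + m) → V := fun i => ⟨algebraMap _ M (y i), (hV _).2 ⟨y i, 1, hP₀.one_notMem, by simp⟩⟩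
  have hyP : ∀ p : MvPolynomial (Fin (n + m)) k, p ≠ 0 →
      V.valuation (MvPolynomial.aeval (fun i => ((yV i : V) : M)) p) = 1 := by
    intro p hp
    rw [show MvPolynomial.aeval (fun i => ((yV i : V) : M)) p = algebraMap (A ⊗[k] B) M (MvPolynomial.aeval y p) from
      MvPolynomial.aeval_algebraMap_apply M y p]
    refine valuation_eq_one _ hV fun hmem => ?_
    have h0 : π (MvPolynomial.aeval y p) = 0 := hmem
    rw [← AlgHom.comp_apply, MvPolynomial.comp_aeval, show (fun i => π (y i)) = yb from funext hy] at h0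
    exact hp ((algebraicIndependent_iff.1 hyb) p h0)
  have hL : ∀ s : Set M, @AlgebraicIndependent _ K M (Subtype.val : s → M) _ _ mu.toRingHom.toAlgebra →
      Cardinal.mk s ≤ n := by
    intro s hs
    letI : Algebra K M := mu.toRingHom.toAlgebra
    have : IsScalarTower k K M := IsScalarTower.of_algebraMap_eq fun r => (mu.commutes r).symm
    have hMn : Algebra.trdeg k M = (n + n : ℕ) := by
      have : Algebra.IsAlgebraic (A ⊗[k] B) M := IsLocalization.isAlgebraic _ (nonZeroDivisors _)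
      rw [← trdeg_add_eq k (A ⊗[k] B) (A := M), trdeg_eq_zero (R := A ⊗[k] B) (A := M), add_zero]
      exact (trdeg_tensor (k := k) (A := A) (B := B) hA hB).1
    have htow := trdeg_add_eq k K (A := M)
    rw [hK, hMn, Nat.cast_add] at htow
    exact hs.cardinalMk_le_trdeg.trans ((Cardinal.eq_of_add_eq_add_left htow Cardinal.natCast_lt_aleph0).le)
  obtain ⟨f, hf⟩ := exists_indep_residues mu V (fun r => (hV _).2 ⟨algebraMap k _ r, 1, hP₀.one_notMem, by
    rw [map_one, mul_one, IsScalarTower.algebraMap_apply k (A ⊗[k] B) M]⟩) (n := n) yV hyP hL le_rfl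
  refine ⟨f, fun p hp => ?_⟩
  have hu := hf p hp
  have hx0 : MvPolynomial.aeval f p ≠ 0 := fun h => by
    rw [h, map_zero, map_zero] at hu
    exact zero_ne_one hu
  have h1 : MvPolynomial.aeval f p ∈ V.comap mu.toRingHom := (V.valuation_le_one_iff _).1 hu.le
  have h2 : (MvPolynomial.aeval f p)⁻¹ ∈ V.comap mu.toRingHom := by
    show mu (MvPolynomial.aeval f p)⁻¹ ∈ V
    rw [map_inv₀]
    exact (V.valuation_le_one_iff _).1 (by rw [map_inv₀, hu, inv_one])
  refine le_antisymm (((V.comap mu.toRingHom).valuation_le_one_iff _).2 h1) ?_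
  have := ((V.comap mu.toRingHom).valuation_le_one_iff _).2 h2
  rwa [map_inv₀, inv_le_one₀] at this
  exact zero_lt_iff.2 ((Valuation.ne_zero_iff _).2 hx0)

end Groth.Rosen
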