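import Groth.Agent.Rosenlicht.Frac
import Groth.Agent.Rosenlicht.ProdVal
import Groth.Agent.Variety2.DimAffine

/-!
From a divisorial valuation without centre in the group to a translation-invariant one.
-/

set_option autoImplicit false
universe u

open CategoryTheory MonoidalCategory CartesianMonoidalCategory MonObj GrpObj AlgebraicGeometry Filter
open Groth.Agf (Fn pull evalPt ptOf evalPt_ptOf)
open scoped TensorProduct Groth.Agf

noncomputable section

namespace Groth.Rosen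

theorem exists_trdeg_dim' {k : Type u} [Field k] (A : Type u) [CommRing A] [IsDomain A] [Algebra k A]
    [Algebra.FiniteType k A] : ∃ n : ℕ, Algebra.trdeg k A = n ∧ ringKrullDim A = n := by
  obtain ⟨n, hn, hd, -⟩ := Groth.Variety2.Dim.exists_dim k A
  refine ⟨n, ?_, hd⟩
  have : Algebra.IsAlgebraic A (FractionRing A) := IsLocalization.isAlgebraic _ (nonZeroDivisors A)
  rw [← hn, ← trdeg_add_eq k A (A := FractionRing A), trdeg_eq_zero (R := A) (A := FractionRing A), add_zero]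

/-- A prime with principal maximal ideal in its local ring drops the dimension by one. -/
theorem dim_quotient_of_principal {k : Type u} [Field k] {B : Type u} [CommRing B] [IsDomain B] [Algebra k B]
    [Algebra.FiniteType k B] (𝔭 : Ideal B) [𝔭.IsPrime] (h0 : 𝔭 ≠ ⊥) {t : B} (ht𝔭 : t ∈ 𝔭)
    (hpr : ∀ b ∈ 𝔭, ∃ q ∉ 𝔭, t ∣ b * q) {n : ℕ} (hn : ringKrullDim B = n) :
    1 ≤ n ∧ ringKrullDim (B ⧸ 𝔭) = (n - 1 : ℕ) := by
  have hcov : (⊥ : PrimeSpectrum B) ⋖ ⟨𝔭, inferInstance⟩ := by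
    refine ⟨bot_lt_iff_ne_bot.2 fun h => h0 (congrArg PrimeSpectrum.asIdeal h), fun Q hQ hQ𝔭 => ?_⟩
    have : IsNoetherianRing B := Algebra.FiniteType.isNoetherianRing k B
    have hlt : Q.asIdeal < 𝔭 := hQ𝔭
    have htQ : t ∉ Q.asIdeal := by
      intro ht
      obtain ⟨b, hb, hbQ⟩ := SetLike.exists_of_lt hlt
      obtain ⟨q, hq, hd⟩ := hpr b hb
      have hmem : b * q ∈ Q.asIdeal := Q.asIdeal.mem_of_dvd hd ht
      exact hbQ ((Q.isPrime.mem_or_mem hmem).resolve_right fun h => hq (hlt.le h))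
    have hQ0 : Q.asIdeal ≠ ⊥ := fun h => hQ.ne' (PrimeSpectrum.ext h)
    let L := Localization.AtPrime 𝔭
    have hle : 𝔭.primeCompl ≤ nonZeroDivisors B := 𝔭.primeCompl_le_nonZeroDivisors
    have : IsDomain L := IsLocalization.isDomain_localization hle
    have : IsNoetherianRing L := IsLocalization.isNoetherianRing 𝔭.primeCompl L inferInstance
    have hall : ∀ (j : ℕ) (x : B), x ∈ Q.asIdeal → algebraMap B L x ∈ IsLocalRing.maximalIdeal L ^ j := by
      intro j
      induction j with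
      | zero => intro x _; simp
      | succ j ih =>
        intro x hx
        obtain ⟨q, hq, d, hd⟩ := hpr x (hlt.le hx)
        have hdQ : d ∈ Q.asIdeal := (Q.isPrime.mem_or_mem (hd ▸ Q.asIdeal.mul_mem_right q hx : t * d ∈ Q.asIdeal)).resolve_left htQ
        have hu : IsUnit (algebraMap B L q) := IsLocalization.map_units L (⟨q, hq⟩ : 𝔭.primeCompl)
        rw [← Ideal.mul_unit_mem_iff_mem _ hu, ← map_mul, hd, map_mul, pow_succ']
        exact Ideal.mul_mem_mul (by rw [← Localization.AtPrime.map_eq_maximalIdeal]; exact Ideal.mem_map_of_mem _ ht𝔭) (ih d hdQ)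
    obtain ⟨x, hx, hx0⟩ := Submodule.exists_mem_ne_zero_of_ne_bot hQ0
    have hbot := Ideal.iInf_pow_eq_bot_of_isDomain (IsLocalRing.maximalIdeal L) (IsLocalRing.maximalIdeal.isMaximal L).ne_top
    have hz : algebraMap B L x ∈ (⨅ j : ℕ, IsLocalRing.maximalIdeal L ^ j) := by
      rw [Submodule.mem_iInf]; exact fun j => hall j x hx
    rw [hbot, Submodule.mem_bot] at hz
    exact hx0 (IsLocalization.injective L hle (hz.trans (map_zero _).symm))
  have h1 := Groth.Variety2.Dim.ringKrullDim_quotient_add_one_of_covBy_bot k B _ hcov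
  obtain ⟨m, -, hm⟩ := exists_trdeg_dim' (k := k) (B ⧸ 𝔭)
  rw [hn] at h1
  change ringKrullDim (B ⧸ 𝔭) + 1 = _ at h1
  rw [hm] at h1 ⊢
  have h1' : m + 1 = n := by exact_mod_cast h1
  exact ⟨by omega, by congr 2; omega⟩

variable {k : Type u} [Field k] [IsAlgClosed k] {G : Over (Spec (CommRingCat.of k))}
  [GrpObj G] [LocallyOfFiniteType G.hom] [QuasiCompact G.hom] [IsIntegral G.left]

namespace Chart

variable {c : Chart G}

/-- A prime divisor on a model, not centred on the group. -/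
structure Divisor (c : Chart G) where
  B : Subalgebra k c.A
  finiteType : Algebra.FiniteType k B
  hfrac : ∀ a : c.A, ∃ p q : B, q ≠ 0 ∧ a * q = p
  P : Ideal B
  isPrime : P.IsPrime
  ne_bot : P ≠ ⊥
  t : B
  t_mem : t ∈ P
  principal : ∀ b ∈ P, ∃ q ∉ P, t ∣ b * q
  noCentre : ∀ h : VecGrp.pt k k ⟶ G, ¬ ∀ a : c.A, ∃ p q : B, q ∉ P ∧ c.toGen.Rat h a p q

set_option synthInstance.maxHeartbeats 100000 in
/-- A translation invariant valuation of the function field with residues of transcendence degree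
one less than the dimension. -/
theorem exists_invariant_valuation_aux (D : Divisor c) (M : Type u) [Field M] [Algebra (c.A ⊗[k] D.B) M]
    [IsFractionRing (c.A ⊗[k] D.B) M] [Algebra k M] [IsScalarTower k (c.A ⊗[k] D.B) M] :
    ∃ (w : ValuationSubring c.K) (n : ℕ), Algebra.trdeg k c.A = n ∧ 1 ≤ n ∧
      (∀ r : k, algebraMap k c.K r ∈ w) ∧ w ≠ ⊤ ∧
      (∀ (h : VecGrp.pt k k ⟶ G) (x : c.K), x ∈ w → c.tau h x ∈ w) ∧
      ∃ f : Fin (n - 1) → c.K, ∀ P : MvPolynomial (Fin (n - 1)) k, P ≠ 0 →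
        w.valuation (MvPolynomial.aeval f P) = 1 := by
  classical
  have := D.finiteType
  have := D.isPrime
  let B := D.B
  let T := c.A ⊗[k] B
  have : IsDomain T := Groth.VarietyBC.isDomain_tensor
  let P₀ : Ideal T := prodPrime c.A (k := k) D.P
  have hP₀ : P₀.IsPrime := prodPrime_isPrime _
  obtain ⟨mu, hmu'⟩ := exists_mu c D.hfrac (M := M)
  have hmu : ∀ (a : c.A) (P Q : T), c.Rep a (jB B P) (jB B Q) →
      mu (algebraMap c.A c.K a) * algebraMap T M Q = algebraMap T M P := hmu'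
  obtain ⟨V, hV⟩ := exists_valuation (M := M) P₀ (fun z s => frac_total (R := c.A) D.t D.t_mem D.principal z s)
  let w : ValuationSubring c.K := V.comap mu.toRingHom
  have hwmem : ∀ x, x ∈ w ↔ ∃ u q : T, q ∉ P₀ ∧ mu x * algebraMap T M q = algebraMap T M u := fun x => hV (mu x)
  have hkw : ∀ r : k, algebraMap k c.K r ∈ w := fun r => (hwmem _).2 ⟨algebraMap k T r, 1, hP₀.one_notMem, by
    rw [mu.commutes, map_one, _root_.mul_one, IsScalarTower.algebraMap_apply k T M]⟩
  obtain ⟨n, hn, hdn⟩ := exists_trdeg_dim' (k := k) c.A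
  have hBn : Algebra.trdeg k B = n := by
    have : Algebra.IsAlgebraic B c.A := ⟨fun a => by
      obtain ⟨p, q, hq, e⟩ := D.hfrac a
      refine ⟨Polynomial.C q * Polynomial.X - Polynomial.C p, fun h => hq ?_, ?_⟩
      · simpa using congrArg (fun f => Polynomial.coeff f 1) h
      · simp only [map_sub, map_mul, Polynomial.aeval_C, Polynomial.aeval_X]
        show (q : c.A) * a - (p : c.A) = 0
        rw [mul_comm, e, sub_self]⟩
    rw [← hn, ← trdeg_add_eq k B (A := c.A), trdeg_eq_zero (R := B) (A := c.A), add_zero]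
  obtain ⟨n', hn', hdB⟩ := exists_trdeg_dim' (k := k) B
  obtain rfl : n' = n := Nat.cast_inj.1 (hn'.symm.trans hBn)
  obtain ⟨hn1, hdim⟩ := dim_quotient_of_principal (k := k) D.P D.ne_bot D.t_mem D.principal hdB
  refine ⟨w, n', hn, hn1, hkw, ?_, ?_, ?_⟩
  · -- not everything
    intro htop
    obtain ⟨S, hS⟩ := (inferInstance : Algebra.FiniteType k c.A).out
    have hrep : ∀ a : c.A, ∃ u q : T, q ∉ P₀ ∧ c.Rep a (jB B u) (jB B q) := by
      intro a
      obtain ⟨u, q, hq, e⟩ := (hwmem (algebraMap c.A c.K a)).1 (htop ▸ trivial)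
      obtain ⟨P, Q, hQ, hr⟩ := c.exists_rep_sub B D.hfrac a
      refine ⟨u, q, hq, hr.of_cross (fun h => hQ (jB_injective B (h.trans (map_zero _).symm))) ?_⟩
      rw [← map_mul, ← map_mul]
      congr 1
      refine IsFractionRing.injective T M ?_
      rw [map_mul, map_mul, ← e, ← hmu a P Q hr]
      ring
    choose u q hq hr using hrep
    obtain ⟨φ, -, hφ⟩ := exists_sl_notMem (k := k) (R := c.A) (z := ∏ a ∈ S, q a)
      (fun h => by obtain ⟨a, -, ha⟩ := hP₀.prod_mem_iff.1 h; exact hq a ha) (one_ne_zero (α := c.A))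
    rw [map_prod] at hφ
    refine D.noCentre (ptOf _ φ ≫ opι G c.U) fun a => ?_
    have ha : a ∈ Algebra.adjoin k (S : Set c.A) := hS ▸ trivial
    induction ha using Algebra.adjoin_induction with
    | mem x hx =>
      refine ⟨sl φ (u x), sl φ (q x), fun h => hφ ?_, ?_⟩
      · rw [← Finset.mul_prod_erase S _ hx]
        exact D.P.mul_mem_right _ h
      · have := (hr x).slice (ptOf _ φ)
        rwa [evalPt_ptOf, sl_map, sl_map] at this
    | algebraMap r => exact ⟨algebraMap k B r, 1, D.isPrime.one_notMem, Gen.rat_const _ r⟩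
    | add x y _ _ hx hy =>
      obtain ⟨p, s, hs, h⟩ := hx
      obtain ⟨p', s', hs', h'⟩ := hy
      exact ⟨p * s' + p' * s, s * s', D.isPrime.mul_notMem hs hs', h.add h'⟩
    | mul x y _ _ hx hy =>
      obtain ⟨p, s, hs, h⟩ := hx
      obtain ⟨p', s', hs', h'⟩ := hy
      exact ⟨p * p', s * s', D.isPrime.mul_notMem hs hs', h.mul h'⟩
  · -- invariance
    intro h x hx
    obtain ⟨u, q, hq, e⟩ := (hwmem x).1 hx
    obtain ⟨a, s, hs, rfl⟩ := IsFractionRing.div_surjective (A := c.A) x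
    have hs0 : s ≠ 0 := nonZeroDivisors.ne_zero hs
    obtain ⟨Pa, Qa, hQa, hra⟩ := c.exists_rep_sub B D.hfrac a
    obtain ⟨Ps, Qs, hQs, hrs⟩ := c.exists_rep_sub B D.hfrac s
    have hms : mu (algebraMap c.A c.K s) ≠ 0 := fun h =>
      algebraMap_K_ne_zero hs0 (mu.injective (h.trans (map_zero _).symm))
    -- `u Qa Ps = q Pa Qs`
    have hrel : u * Qa * Ps = q * Pa * Qs := by
      refine IsFractionRing.injective T M ?_
      simp only [map_mul]
      rw [← hmu a Pa Qa hra, ← hmu s Ps Qs hrs, ← e, map_div₀]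
      field_simp
    obtain ⟨p₁, q₁, hq₁, hr₁⟩ := c.exists_rat h a
    obtain ⟨p₂, q₂, hq₂, hr₂⟩ := c.exists_rat h s
    obtain ⟨Pp₁, Qp₁, hQp₁, hrp₁⟩ := c.exists_rep_sub B D.hfrac p₁
    obtain ⟨Pq₁, Qq₁, hQq₁, hrq₁⟩ := c.exists_rep_sub B D.hfrac q₁
    obtain ⟨Pp₂, Qp₂, hQp₂, hrp₂⟩ := c.exists_rep_sub B D.hfrac p₂
    obtain ⟨Pq₂, Qq₂, hQq₂, hrq₂⟩ := c.exists_rep_sub B D.hfrac q₂
    obtain ⟨u', du, hdu, hu'⟩ := exists_translate_tensor B h u
    obtain ⟨q', dq, hdq, hq'⟩ := exists_translate_tensor B h q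
    obtain ⟨Qa', da, hda, hQa'⟩ := exists_translate_tensor B h Qa
    obtain ⟨Qs', ds, hds, hQs'⟩ := exists_translate_tensor B h Qs
    have hgen2 : ∀ z : T, z ≠ 0 → ∀ᶠ g in c.gen, ∀ᶠ x in c.gen, pr (c.ev g) ((c.ev x).comp B.val) z ≠ 0 := by
      intro z hz
      obtain ⟨φ, -, hφ⟩ := exists_sl_ne_zero hz (one_ne_zero (α := c.A))
      obtain ⟨ψ, hψ⟩ := Groth.VarietyBC.exists_algHom_ne_zero (k := k) (a := sl φ z) (fun hn => hφ hn.eq_zero)
      have her : er ψ z ≠ 0 := fun e => hψ (by rw [comp_sl, ← comp_er, e, map_zero])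
      filter_upwards [c.toGen.eventually_ne _ her] with g hg
      have hsl : sl (c.ev g) z ≠ 0 := fun e => hg (by
        show c.ev g (er ψ z) = 0
        rw [comp_er, ← comp_sl, e, map_zero])
      have hsl' : ((sl (c.ev g) z : B) : c.A) ≠ 0 := fun e => hsl (Subtype.ext e)
      filter_upwards [c.toGen.eventually_ne _ hsl'] with x hx
      rw [← comp_sl]
      exact hx
    -- `T = (dq u' Pq₁-fractions)`
    let Tnum := u' * (dq ⊗ₜ 1)
    let Tden := q' * (du ⊗ₜ 1)
    have hqden : Tden ∉ P₀ := by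
      obtain ⟨φ, -, hφ⟩ := exists_sl_notMem hq (one_ne_zero (α := c.A))
      obtain ⟨ψ, hψ⟩ := Groth.VarietyBC.exists_algHom_ne_zero (k := k)
        (a := Ideal.Quotient.mkₐ k D.P (sl φ q)) (fun hn => hφ (Ideal.Quotient.eq_zero_iff_mem.1 hn.eq_zero))
      let ψ' : B →ₐ[k] k := ψ.comp (Ideal.Quotient.mkₐ k D.P)
      have her : er ψ' q ≠ 0 := fun e => hψ (by
        show ψ' (sl φ q) = 0
        rw [comp_sl, ← comp_er, e, map_zero])
      intro hmem
      have := c.gen_neBot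
      obtain ⟨g, ⟨⟨h1, h2⟩, h3⟩, h4⟩ := (((hq'.and (c.gen_tendsto_mul h (c.toGen.eventually_ne _ her))).and
        (c.toGen.eventually_ne _ hdq)).and (c.toGen.eventually_ne _ hdu)).exists
      have hker : ψ' (sl (c.ev g) Tden) = 0 := by
        show ψ (Ideal.Quotient.mk D.P (sl (c.ev g) Tden)) = 0
        rw [Ideal.Quotient.eq_zero_iff_mem.2 (sl_mem hmem (c.ev g)), map_zero]
      rw [comp_sl, map_mul, pr_tmul, map_one, _root_.mul_one, ← h1 ψ'] at hker
      refine mul_ne_zero (mul_ne_zero ?_ h3) h4 hker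
      rw [← comp_er]
      exact h2
    have hp₂0 : p₂ ≠ 0 := hr₂.ne_zero hs0 hq₂
    refine (hwmem _).2 ⟨Tnum, Tden, hqden, ?_⟩
    have e1 : c.tau h (algebraMap c.A c.K a / algebraMap c.A c.K s) =
        algebraMap c.A c.K p₁ * algebraMap c.A c.K q₂ / (algebraMap c.A c.K q₁ * algebraMap c.A c.K p₂) := by
      rw [map_div₀, ← tau_rat hr₁, ← tau_rat hr₂]
      have h2 : c.tau h (algebraMap c.A c.K s) ≠ 0 := fun h' =>
        algebraMap_K_ne_zero hs0 ((c.tau h).injective (h'.trans (map_zero _).symm))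
      have := algebraMap_K_ne_zero hq₁
      have := algebraMap_K_ne_zero hq₂
      field_simp
    have nz : ∀ {z : T}, z ≠ 0 → algebraMap T M z ≠ 0 := fun {z} hz h =>
      hz (IsFractionRing.injective T M (h.trans (map_zero _).symm))
    have hmu' : ∀ {a : c.A} {P Q : T}, Q ≠ 0 → c.Rep a (jB B P) (jB B Q) →
        mu (algebraMap c.A c.K a) = algebraMap T M P / algebraMap T M Q := fun hQ hr => by
      rw [eq_div_iff (nz hQ)]; exact hmu _ _ _ hr
    have hne : ∀ {a : c.A} {P Q : T}, a ≠ 0 → Q ≠ 0 → c.Rep a (jB B P) (jB B Q) → P ≠ 0 := fun ha hQ hr h =>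
      hr.ne_zero ha (fun h' => hQ (jB_injective B (h'.trans (map_zero _).symm))) (by rw [h, map_zero])
    have hPq₁ := hne hq₁ hQq₁ hrq₁
    have hPp₂ := hne hp₂0 hQp₂ hrp₂
    have key : Pp₁ * Qq₁ * (Pq₂ * Qp₂) * Tden = Tnum * (Pq₁ * Qp₁ * (Pp₂ * Qq₂)) := by
      refine eq_of_eventually_pr ?_
      have gU := c.eventually_mem
      filter_upwards [gU, c.gen_tendsto_mul h gU, hu', hq', hQa', hQs', c.toGen.eventually_ne _ hda,
        c.toGen.eventually_ne _ hds, c.gen_tendsto_mul h (hgen2 Qa hQa), c.gen_tendsto_mul h (hgen2 Qs hQs)]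
        with g hg hhg eu eq' _ _ _ _ nQa nQs
      have hrelv := hra.eventually hhg
      filter_upwards [hrelv, hrs.eventually hhg, hrp₁.eventually hg, hrq₁.eventually hg, hrp₂.eventually hg,
        hrq₂.eventually hg, c.gen_tendsto_mul g hr₁, c.gen_tendsto_mul g hr₂, nQa, nQs]
        with x ea es ep1 eq1 ep2 eq2 r1 r2 na ns
      have r1' : c.ev (h * g * x) a * c.ev (g * x) q₁ = c.ev (g * x) p₁ := by rw [_root_.mul_assoc h]; exact r1
      have r2' : c.ev (h * g * x) s * c.ev (g * x) q₂ = c.ev (g * x) p₂ := by rw [_root_.mul_assoc h]; exact r2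
      have hrel' := congrArg (pr (c.ev (h * g)) ((c.ev x).comp B.val)) hrel
      simp only [map_mul] at hrel'
      rw [← es, ← ea] at hrel'
      have hrel'' : pr (c.ev (h * g)) ((c.ev x).comp B.val) u * c.ev (h * g * x) s =
          pr (c.ev (h * g)) ((c.ev x).comp B.val) q * c.ev (h * g * x) a :=
        mul_right_cancel₀ (mul_ne_zero na ns) (by linear_combination hrel')
      simp only [Tden, Tnum, map_mul, pr_tmul, map_one, _root_.mul_one]
      rw [← eu, ← eq', ← ep1, ← eq1, ← ep2, ← eq2, ← r1', ← r2']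
      linear_combination (-(pr (c.ev g) ((c.ev x).comp B.val) Qp₁ * pr (c.ev g) ((c.ev x).comp B.val) Qq₁ *
        pr (c.ev g) ((c.ev x).comp B.val) Qp₂ * pr (c.ev g) ((c.ev x).comp B.val) Qq₂ *
        c.ev (g * x) q₁ * c.ev (g * x) q₂ * c.ev g du * c.ev g dq)) * hrel''
    rw [e1, map_div₀, map_mul, map_mul, hmu' hQp₁ hrp₁, hmu' hQq₁ hrq₁, hmu' hQp₂ hrp₂, hmu' hQq₂ hrq₂]
    have key' := congrArg (algebraMap T M) key
    simp only [map_mul] at key'
    have := nz hQp₁
    have := nz hQq₁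
    have := nz hQp₂
    have := nz hQq₂
    have := nz hPq₁
    have := nz hPp₂
    field_simp
    linear_combination key'
  · -- residues
    obtain ⟨m, hm, hdm⟩ := exists_trdeg_dim' (k := k) (B ⧸ D.P)
    obtain rfl : m = n' - 1 := by rw [hdm] at hdim; exact_mod_cast hdim
    have hKn : Algebra.trdeg k c.K = n' := by
      have : Algebra.IsAlgebraic c.A c.K := IsLocalization.isAlgebraic _ (nonZeroDivisors c.A)
      rw [← trdeg_add_eq k c.A (A := c.K), trdeg_eq_zero (R := c.A) (A := c.K), add_zero, hn]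
    exact exists_residues (A := c.A) (B := D.B) (M := M) mu D.P V hV hn hn' hKn hm

/-- **A translation invariant valuation** exists. -/
theorem exists_invariant_valuation (D : Divisor c) :
    ∃ (w : ValuationSubring c.K) (n : ℕ), Algebra.trdeg k c.A = n ∧ 1 ≤ n ∧
      (∀ r : k, algebraMap k c.K r ∈ w) ∧ w ≠ ⊤ ∧
      (∀ (h : VecGrp.pt k k ⟶ G) (x : c.K), x ∈ w → c.tau h x ∈ w) ∧
      ∃ f : Fin (n - 1) → c.K, ∀ P : MvPolynomial (Fin (n - 1)) k, P ≠ 0 →
        w.valuation (MvPolynomial.aeval f P) = 1 :=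
  have := D.finiteType
  have : IsDomain (c.A ⊗[k] D.B) := Groth.VarietyBC.isDomain_tensor
  exists_invariant_valuation_aux D (FractionRing (c.A ⊗[k] D.B))

end Chart

end Groth.Rosen
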