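import Groth.Agent.Rosenlicht.Product

/-! A fraction of slices, read in an infinitesimal neighbourhood, is a regular function. -/

set_option autoImplicit false
universe u

open scoped TensorProduct

noncomputable section

namespace Groth.Rosen

variable {k : Type u} [Field k] {A B S : Type u} [CommRing A] [Algebra k A] [CommRing B] [Algebra k B]
  [CommRing S] [Algebra k S]

theorem map_inverse {R R' : Type u} [CommRing R] [CommRing R'] (f : R →+* R') {x : R} (hx : IsUnit x) :
    f (Ring.inverse x) = Ring.inverse (f x) := by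
  obtain ⟨v, rfl⟩ := hx
  rw [Ring.inverse_unit, show f (v : R) = ((Units.map f.toMonoidHom v : R'ˣ) : R') from rfl, Ring.inverse_unit]
  rfl

theorem sl_map_map {T : Type u} [CommRing T] [Algebra k T] (κ : A →ₐ[k] T) (π : B →ₐ[k] S) (L : T →ₐ[k] k)
    (z : A ⊗[k] B) : sl L (Algebra.TensorProduct.map κ π z) = π (sl (L.comp κ) z) := by
  induction z using TensorProduct.induction_on with
  | zero => simp
  | tmul a b => simp
  | add a b ha hb => simp [ha, hb]

theorem lift_dual {T : Type u} [CommRing T] [Algebra k T] (ℓ : S →ₗ[k] k) (L : T →ₐ[k] k) (J : T ⊗[k] S) :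
    L (TensorProduct.rid k T (ℓ.lTensor T J)) = ℓ (sl L J) := by
  induction J using TensorProduct.induction_on with
  | zero => simp
  | tmul a b =>
    rw [LinearMap.lTensor_tmul, TensorProduct.rid_tmul, sl_tmul, ← Algebra.smul_def, map_smul, map_smul,
      smul_eq_mul, smul_eq_mul, mul_comm]
  | add a b ha hb => simp [ha, hb]

theorem isNilpotent_map_sub {T : Type u} [CommRing T] [Algebra k T] (κ : A →ₐ[k] T) (π : B →ₐ[k] S)
    (ψ : B →ₐ[k] k) (hπ : ∀ b, IsNilpotent (π b - algebraMap k S (ψ b))) (z : A ⊗[k] B) :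
    IsNilpotent (Algebra.TensorProduct.map κ π z - κ (er ψ z) ⊗ₜ[k] (1 : S)) := by
  induction z using TensorProduct.induction_on with
  | zero => simp
  | tmul a b =>
    have e : Algebra.TensorProduct.map κ π (a ⊗ₜ b) - κ (er ψ (a ⊗ₜ b)) ⊗ₜ[k] (1 : S) =
        (κ a ⊗ₜ[k] (1 : S)) * ((1 : T) ⊗ₜ[k] (π b - algebraMap k S (ψ b))) := by
      rw [Algebra.TensorProduct.map_tmul, Algebra.TensorProduct.tmul_mul_tmul, mul_one, one_mul,
        TensorProduct.tmul_sub]
      congr 1
      rw [er_tmul, map_mul, AlgHom.commutes, mul_comm, ← Algebra.smul_def, TensorProduct.smul_tmul,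
        ← Algebra.algebraMap_eq_smul_one]
    rw [e]
    exact (Commute.all _ _).isNilpotent_mul_left ((hπ b).map (Algebra.TensorProduct.includeRight (R := k) (A := T)))
  | add z z' hz hz' =>
    rw [map_add, map_add, map_add, TensorProduct.add_tmul, add_sub_add_comm]
    exact (Commute.all _ _).isNilpotent_add hz hz'

/-- The function `L ↦ ℓ (π (num_L) / π (den_L))` is regular where `ψ (den_L) ≠ 0`. -/
theorem exists_jet_fraction (π : B →ₐ[k] S) (ψ : B →ₐ[k] k)
    (hπ : ∀ b, IsNilpotent (π b - algebraMap k S (ψ b))) (ℓ : S →ₗ[k] k) (num den : A ⊗[k] B) :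
    ∃ (c : A) (N : ℕ), ∀ L : A →ₐ[k] k, L (er ψ den) ≠ 0 →
      ℓ (π (sl L num) * Ring.inverse (π (sl L den))) * L (er ψ den) ^ N = L c := by
  let f := er ψ den
  let T := Localization.Away f
  let κ : A →ₐ[k] T := IsScalarTower.toAlgHom k A T
  let jm := Algebra.TensorProduct.map κ π
  have hw : IsUnit (jm den) := by
    have h := (isNilpotent_map_sub κ π ψ hπ den).isUnit_add_right_of_commute
      ((IsLocalization.Away.algebraMap_isUnit f).map (Algebra.TensorProduct.includeLeft (R := k) (S := k) (A := T) (B := S)))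
      (Commute.all _ _)
    have e : κ (er ψ den) ⊗ₜ[k] (1 : S) =
        Algebra.TensorProduct.includeLeft (R := k) (S := k) (A := T) (B := S) (algebraMap A T f) := rfl
    rw [e, sub_add_cancel] at h
    exact h
  obtain ⟨N, c, hc⟩ := IsLocalization.Away.surj f
    (TensorProduct.rid k T (ℓ.lTensor T (jm num * Ring.inverse (jm den))))
  refine ⟨c, N, fun L hL => ?_⟩
  let L' : T →ₐ[k] k := IsLocalization.liftAlgHom (M := Submonoid.powers f) (f := L)
    (fun ⟨_, j, hj⟩ => by subst hj; rw [map_pow]; exact (isUnit_iff_ne_zero.2 hL).pow j)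
  have hL' : L'.comp κ = L := AlgHom.ext fun x => IsLocalization.lift_eq _ _
  have hx : ∀ x, L' (algebraMap A T x) = L x := fun x => IsLocalization.lift_eq _ _
  have e := congrArg L' hc
  have hinv : sl L' (Ring.inverse (jm den)) = Ring.inverse (sl L' (jm den)) :=
    map_inverse (sl L' : T ⊗[k] S →ₐ[k] S).toRingHom hw
  rw [map_mul, map_pow, hx, hx, lift_dual, map_mul, hinv, sl_map_map, sl_map_map, hL'] at e
  exact e

end Groth.Rosen
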