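import Mathlib.RingTheory.Filtration
import Mathlib.RingTheory.FiniteType
import Mathlib.RingTheory.Ideal.Quotient.Operations
import Mathlib.Order.Filter.Tendsto
import Mathlib.Tactic.LinearCombination
import Mathlib.RingTheory.Nilpotent.Basic
import Mathlib.Algebra.Algebra.Pi

/-!
Rational self-maps given on points: a group `Γ` with a filter of "generic" points at which a domain
`A` of functions can be evaluated.  For a subalgebra `B` we study the elements of `Γ` whose translation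
is defined at a given point of `B`, the stabiliser of a point and its action on jets.
-/

set_option autoImplicit false
universe u

open Filter

noncomputable section

namespace Groth.Rosen

/-- Functions evaluated at generic points of a group. -/
structure Gen (k : Type u) [Field k] (Γ : Type u) [Group Γ] (A : Type u) [CommRing A] [Algebra k A] where
  F : Filter Γ
  ev : Γ → (A →ₐ[k] k)
  neBot : F.NeBot
  tendsto_mul : ∀ h : Γ, Tendsto (fun x => h * x) F F
  eventually_ne : ∀ a : A, a ≠ 0 → ∀ᶠ x in F, ev x a ≠ 0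

variable {k : Type u} [Field k] {Γ : Type u} [Group Γ] {A : Type u} [CommRing A] [Algebra k A]
  (E : Gen k Γ A)

namespace Gen

instance : E.F.NeBot := E.neBot

theorem eq_of_eventually {a b : A} (h : ∀ᶠ x in E.F, E.ev x a = E.ev x b) : a = b := by
  by_contra hab
  obtain ⟨x, hx, hx'⟩ := (h.and (E.eventually_ne (a - b) (sub_ne_zero.2 hab))).exists
  exact hx' (by rw [map_sub, hx, sub_self])

theorem eventually_comp {P : Γ → Prop} (hP : ∀ᶠ x in E.F, P x) (h : Γ) : ∀ᶠ x in E.F, P (h * x) :=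
  E.tendsto_mul h hP

/-- The translate of `a` by `h` is the fraction `p / q`. -/
def Rat (h : Γ) (a p q : A) : Prop :=
  ∀ᶠ x in E.F, E.ev (h * x) a * E.ev x q = E.ev x p

variable {E}

theorem rat_one (a : A) : E.Rat 1 a a 1 := Eventually.of_forall fun x => by simp

theorem rat_const (h : Γ) (c : k) : E.Rat h (algebraMap k A c) (algebraMap k A c) 1 :=
  Eventually.of_forall fun x => by simp

theorem Rat.mul {h : Γ} {a p q a' p' q' : A} (h₁ : E.Rat h a p q) (h₂ : E.Rat h a' p' q') :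
    E.Rat h (a * a') (p * p') (q * q') := by
  filter_upwards [h₁, h₂] with x e₁ e₂
  rw [map_mul, map_mul, map_mul, ← e₁, ← e₂]
  ring

theorem Rat.add {h : Γ} {a p q a' p' q' : A} (h₁ : E.Rat h a p q) (h₂ : E.Rat h a' p' q') :
    E.Rat h (a + a') (p * q' + p' * q) (q * q') := by
  filter_upwards [h₁, h₂] with x e₁ e₂
  simp only [map_add, map_mul, ← e₁, ← e₂]
  ring

theorem Rat.cross {h : Γ} {a p q p' q' : A} (h₁ : E.Rat h a p q) (h₂ : E.Rat h a p' q') :
    p * q' = p' * q := by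
  refine E.eq_of_eventually ?_
  filter_upwards [h₁, h₂] with x e₁ e₂
  rw [map_mul, map_mul, ← e₁, ← e₂]
  ring

/-- Composition of translations. -/
theorem Rat.comp {g h : Γ} {a p q p₁ q₁ p₂ q₂ : A} (h₀ : E.Rat g a p q) (h₁ : E.Rat h p p₁ q₁)
    (h₂ : E.Rat h q p₂ q₂) : E.Rat (g * h) a (p₁ * q₂) (p₂ * q₁) := by
  filter_upwards [E.eventually_comp h₀ h, h₁, h₂] with x e₀ e₁ e₂
  rw [mul_assoc, map_mul, map_mul, ← e₁, ← e₂, ← e₀]
  ring

theorem Rat.ne_zero [IsDomain A] {h : Γ} {a p q : A} (hr : E.Rat h a p q) (ha : a ≠ 0) (hq : q ≠ 0) : p ≠ 0 := by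
  intro hp
  obtain ⟨x, ⟨e, ea⟩, eq'⟩ := ((hr.and (E.eventually_comp (E.eventually_ne a ha) h)).and
    (E.eventually_ne q hq)).exists
  rw [hp, map_zero] at e
  exact mul_ne_zero ea eq' e

end Gen

variable (B : Subalgebra k A)

/-- The translation by `h` is defined at the point `χ` of `B` and sends it to `χ'`. -/
def Maps (h : Γ) (χ χ' : B →ₐ[k] k) : Prop :=
  ∀ b : B, ∃ p q : B, χ q ≠ 0 ∧ χ p = χ' b * χ q ∧ E.Rat h b p q

variable {E B}

theorem Maps.unique {h : Γ} {χ χ' χ'' : B →ₐ[k] k} (h₁ : Maps E B h χ χ') (h₂ : Maps E B h χ χ'') :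
    χ' = χ'' := by
  refine AlgHom.ext fun b => ?_
  obtain ⟨p, q, hq, hp, hr⟩ := h₁ b
  obtain ⟨p', q', hq', hp', hr'⟩ := h₂ b
  have e : χ (p * q') = χ (p' * q) := congrArg χ (Subtype.ext (hr.cross hr'))
  rw [map_mul, map_mul, hp, hp'] at e
  exact mul_right_cancel₀ (mul_ne_zero hq hq') (by linear_combination e)

theorem maps_one (χ : B →ₐ[k] k) : Maps E B 1 χ χ := fun b =>
  ⟨b, 1, by simp, by simp, Gen.rat_one (b : A)⟩

theorem Maps.comp {g h : Γ} {χ χ' χ'' : B →ₐ[k] k} (hh : Maps E B h χ χ') (hg : Maps E B g χ' χ'') :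
    Maps E B (g * h) χ χ'' := by
  intro b
  obtain ⟨p, q, hq, hp, hr⟩ := hg b
  obtain ⟨p₁, q₁, hq₁, hp₁, hr₁⟩ := hh p
  obtain ⟨p₂, q₂, hq₂, hp₂, hr₂⟩ := hh q
  refine ⟨p₁ * q₂, p₂ * q₁, ?_, ?_, hr.comp hr₁ hr₂⟩
  · rw [map_mul, hp₂]
    exact mul_ne_zero (mul_ne_zero hq hq₂) hq₁
  · rw [map_mul, map_mul, hp₁, hp, hp₂]
    ring

variable (E B)

/-- The translations fixing a point, in both directions. -/
def stab (χ : B →ₐ[k] k) : Subgroup Γ where
  carrier := {h | Maps E B h χ χ ∧ Maps E B h⁻¹ χ χ}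
  one_mem' := by simpa using maps_one χ
  mul_mem' := fun {a b} ha hb => ⟨hb.1.comp ha.1, by rw [mul_inv_rev]; exact ha.2.comp hb.2⟩
  inv_mem' := fun {a} ha => ⟨ha.2, by rw [inv_inv]; exact ha.1⟩

variable {E B}

theorem mem_stab_iff {χ : B →ₐ[k] k} {h : Γ} : h ∈ stab E B χ ↔ Maps E B h χ χ ∧ Maps E B h⁻¹ χ χ := Iff.rfl

/-- The ideal of the `r`-th infinitesimal neighbourhood. -/
abbrev jetIdeal (χ : B →ₐ[k] k) (r : ℕ) : Ideal B := RingHom.ker χ ^ (r + 1)

theorem isUnit_mk {χ : B →ₐ[k] k} {q : B} (hq : χ q ≠ 0) (r : ℕ) :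
    IsUnit (Ideal.Quotient.mk (jetIdeal χ r) q) := by
  have hm : (1 - algebraMap k B (χ q)⁻¹ * q) ∈ RingHom.ker χ := by
    simp [RingHom.mem_ker, hq]
  have hnil : IsNilpotent (Ideal.Quotient.mk (jetIdeal χ r) (1 - algebraMap k B (χ q)⁻¹ * q)) :=
    ⟨r + 1, by rw [← map_pow, Ideal.Quotient.eq_zero_iff_mem]; exact Ideal.pow_mem_pow hm _⟩
  have h := IsNilpotent.isUnit_one_sub hnil
  rw [map_sub, map_one, sub_sub_cancel, map_mul] at h
  exact isUnit_of_mul_isUnit_right h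

/-- The action on jets. -/
def jet (h : Γ) (χ : B →ₐ[k] k) (r : ℕ) (b : B) (hh : Maps E B h χ χ) : B ⧸ jetIdeal χ r :=
  Ideal.Quotient.mk _ (hh b).choose * Ring.inverse (Ideal.Quotient.mk _ (hh b).choose_spec.choose)

theorem jet_eq {h : Γ} {χ : B →ₐ[k] k} {r : ℕ} {b p q : B} (hh : Maps E B h χ χ) (hq : χ q ≠ 0)
    (hr : E.Rat h b p q) :
    jet h χ r b hh = Ideal.Quotient.mk _ p * Ring.inverse (Ideal.Quotient.mk _ q) := by
  obtain ⟨hq', -, hr'⟩ := (hh b).choose_spec.choose_spec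
  have e : (hh b).choose * q = p * (hh b).choose_spec.choose := Subtype.ext (hr'.cross hr)
  have e' := congrArg (Ideal.Quotient.mk (jetIdeal χ r)) e
  rw [map_mul, map_mul] at e'
  obtain ⟨u, hu⟩ := isUnit_mk hq r
  obtain ⟨v, hv⟩ := isUnit_mk hq' r
  rw [← hu, ← hv] at e'
  rw [jet, ← hu, ← hv, Ring.inverse_unit, Ring.inverse_unit]
  rw [Units.mul_inv_eq_iff_eq_mul, mul_right_comm, Units.eq_mul_inv_iff_mul_eq]
  exact e'

theorem jet_one {χ : B →ₐ[k] k} {r : ℕ} {b : B} (hh : Maps E B 1 χ χ) :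
    jet 1 χ r b hh = Ideal.Quotient.mk _ b := by
  rw [jet_eq hh (q := 1) (by simp) (Gen.rat_one (b : A)), map_one, Ring.inverse_one, mul_one]

/-- A translation acting trivially on all jets fixes `B`. -/
theorem eventually_eq_of_jets [IsDomain A] [Algebra.FiniteType k B] {h : Γ} {χ : B →ₐ[k] k}
    (hh : Maps E B h χ χ) (hj : ∀ r b, jet h χ r b hh = Ideal.Quotient.mk _ b) (b : B) :
    ∀ᶠ x in E.F, E.ev (h * x) b = E.ev x b := by
  have : IsNoetherianRing B := Algebra.FiniteType.isNoetherianRing k B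
  obtain ⟨p, q, hq, -, hr⟩ := hh b
  have hd : ∀ r : ℕ, p - b * q ∈ jetIdeal χ r := fun r => by
    have e := hj r b
    rw [jet_eq hh hq hr] at e
    obtain ⟨u, hu⟩ := isUnit_mk hq r
    rw [← Ideal.Quotient.eq, map_mul, ← e, ← hu, Ring.inverse_unit, Units.inv_mul_cancel_right]
  have hne : RingHom.ker χ ≠ ⊤ := RingHom.ker_ne_top _
  have h0 : p - b * q ∈ (⨅ i : ℕ, RingHom.ker χ ^ i) := by
    rw [Submodule.mem_iInf]
    intro i
    exact Ideal.pow_le_pow_right i.le_succ (hd i)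
  rw [Ideal.iInf_pow_eq_bot_of_isDomain _ hne, Submodule.mem_bot, sub_eq_zero] at h0
  subst h0
  have hq0 : (q : A) ≠ 0 := fun e => hq (by rw [show q = 0 from Subtype.ext e, map_zero])
  filter_upwards [hr, E.eventually_ne _ hq0] with x e ex
  rw [Subalgebra.coe_mul, map_mul] at e
  exact mul_right_cancel₀ ex e

end Groth.Rosen
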