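import Groth.Agent.Rosenlicht.Maps
import Groth.Agent.AlgGrp1.Translates
import Groth.Agent.AlgGrp1.Points
import Groth.Agent.VarietyBC.TensorAlgClosed
import Mathlib.RingTheory.Localization.Away.Basic

/-!
The generic points of an integral group scheme over an algebraically closed field, seen through the
functions on an affine open.
-/

set_option autoImplicit false
universe u

open CategoryTheory MonoidalCategory CartesianMonoidalCategory MonObj GrpObj AlgebraicGeometry Filter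
open Groth.Agf (Fn pull evalPt ptOf univ evalPt_ptMap evalPt_comp_apply pt_ext evalPt_ptOf ptMap_univ)
open Groth.AlgGrp1 (lTr comp_lTr exists_point_mem_open fn_ext_points)
open scoped TensorProduct Groth.Agf

noncomputable section

namespace Groth.Rosen

variable {k : Type u} [Field k] [IsAlgClosed k]

/-- An open subscheme, over `k`. -/
abbrev opn (G : Over (Spec (CommRingCat.of k))) (U : G.left.Opens) : Over (Spec (CommRingCat.of k)) :=
  Over.mk (U.ι ≫ G.hom)

/-- The inclusion of an open subscheme. -/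
abbrev opι (G : Over (Spec (CommRingCat.of k))) (U : G.left.Opens) : opn G U ⟶ G := Over.homMk U.ι rfl

/-- The point underlying a rational point. -/
abbrev rp {X : Over (Spec (CommRingCat.of k))} (x : VecGrp.pt k k ⟶ X) : X.left :=
  x.left.base (IsLocalRing.closedPoint k)

variable {G : Over (Spec (CommRingCat.of k))}

theorem rp_opι {U : G.left.Opens} (x : VecGrp.pt k k ⟶ opn G U) : rp (x ≫ opι G U) ∈ U :=
  (x.left.base (IsLocalRing.closedPoint k)).2

theorem exists_lift_opn {U : G.left.Opens} (x : VecGrp.pt k k ⟶ G) (h : rp x ∈ U) :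
    ∃ y : VecGrp.pt k k ⟶ opn G U, y ≫ opι G U = x := by
  have hr : Set.range x.left ⊆ Set.range U.ι := by
    rintro _ ⟨p, rfl⟩
    rw [Scheme.Opens.range_ι]
    rwa [Subsingleton.elim (α := ↥(Spec (CommRingCat.of k))) p (IsLocalRing.closedPoint k)]
  refine ⟨Over.homMk (IsOpenImmersion.lift U.ι x.left hr) ?_,
    Over.OverMorphism.ext (IsOpenImmersion.lift_fac _ _ _)⟩
  show IsOpenImmersion.lift U.ι x.left hr ≫ U.ι ≫ G.hom = _
  rw [IsOpenImmersion.lift_fac_assoc, Over.w x]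

/-- An element of a reduced algebra of finite type is zero if it vanishes at all rational points. -/
theorem eq_zero_of_algHom {R : Type u} [CommRing R] [Algebra k R] [Algebra.FiniteType k R] [_root_.IsReduced R]
    {a : R} (h : ∀ φ : R →ₐ[k] k, φ a = 0) : a = 0 := by
  by_contra ha
  obtain ⟨φ, hφ⟩ := Groth.VarietyBC.exists_algHom_ne_zero (k := k) (a := a) (fun hn => ha hn.eq_zero)
  exact hφ (h φ)

/-- A morphism from an affine scheme, near a rational point going into an affine open. -/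
theorem exists_rep {U : G.left.Opens} {R : Type u} [CommRing R] [Algebra k R]
    (v : VecGrp.pt k R ⟶ G) (φ : R →ₐ[k] k) (hφ : rp (VecGrp.ptMap φ ≫ v) ∈ U) :
    ∃ s : R, φ s ≠ 0 ∧ ∀ a : Fn (opn G U), ∃ (c : R) (n : ℕ), ∀ ψ : R →ₐ[k] k, ψ s ≠ 0 →
      ∃ y : VecGrp.pt k k ⟶ opn G U, y ≫ opι G U = VecGrp.ptMap ψ ≫ v ∧ evalPt y a * ψ s ^ n = ψ c := by
  let O : (Spec (CommRingCat.of R)).Opens := v.left ⁻¹ᵁ U
  have hq : (VecGrp.ptMap φ).left.base (IsLocalRing.closedPoint k) ∈ O := hφ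
  obtain ⟨_, ⟨s, rfl⟩, hs, hsO⟩ :=
    PrimeSpectrum.isTopologicalBasis_basic_opens.exists_subset_of_mem_open hq O.2
  have hφs : φ s ≠ 0 := fun e => hs (by
    show φ s ∈ (IsLocalRing.closedPoint k).asIdeal
    rw [e]
    exact Submodule.zero_mem _)
  refine ⟨s, hφs, ?_⟩
  let L := Localization.Away s
  let i : R →ₐ[k] L := IsScalarTower.toAlgHom k R L
  have hr : Set.range (VecGrp.ptMap i ≫ v).left ⊆ Set.range U.ι := by
    rintro _ ⟨p, rfl⟩
    rw [Scheme.Opens.range_ι]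
    have hp : (VecGrp.ptMap i).left.base p ∈ PrimeSpectrum.basicOpen s := by
      exact (PrimeSpectrum.localization_away_comap_range L s).subset ⟨p, rfl⟩
    exact hsO hp
  let w : VecGrp.pt k L ⟶ opn G U := Over.homMk (IsOpenImmersion.lift U.ι (VecGrp.ptMap i ≫ v).left hr)
    (by show IsOpenImmersion.lift U.ι _ hr ≫ U.ι ≫ G.hom = _
        rw [IsOpenImmersion.lift_fac_assoc, Over.w (VecGrp.ptMap i ≫ v)])
  have hw : w ≫ opι G U = VecGrp.ptMap i ≫ v := Over.OverMorphism.ext (IsOpenImmersion.lift_fac _ _ _)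
  intro a
  obtain ⟨n, c, hc⟩ := IsLocalization.Away.surj s (evalPt w a)
  refine ⟨c, n, fun ψ hψ => ?_⟩
  let L' : L →ₐ[k] k := IsLocalization.liftAlgHom (M := Submonoid.powers s) (f := ψ) (fun ⟨_, m, hm⟩ => by
    subst hm
    rw [map_pow]
    exact (isUnit_iff_ne_zero.2 hψ).pow m)
  have hL' : L'.comp i = ψ := AlgHom.ext fun r => IsLocalization.lift_eq _ _
  refine ⟨VecGrp.ptMap L' ≫ w, by rw [Category.assoc, hw, ← Category.assoc, ← AlgGrp1.ptMap_comp, hL'], ?_⟩
  have := congrArg L' hc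
  rw [map_mul, map_pow] at this
  rw [show L' (algebraMap R L s) = ψ s from DFunLike.congr_fun hL' s,
    show L' (algebraMap R L c) = ψ c from DFunLike.congr_fun hL' c] at this
  rw [evalPt_ptMap]
  exact this

variable [GrpObj G] [LocallyOfFiniteType G.hom] [QuasiCompact G.hom] [IsIntegral G.left]

/-- An affine open of an integral group, with a chosen rational point. -/
structure Chart (G : Over (Spec (CommRingCat.of k))) where
  U : G.left.Opens
  isAffine : IsAffineOpen U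
  base : VecGrp.pt k k ⟶ opn G U

namespace Chart

variable (c : Chart G)

instance : IsAffine (opn G c.U).left := c.isAffine

omit [IsAlgClosed k] [GrpObj G] [QuasiCompact G.hom] [IsIntegral G.left] in
theorem lft : LocallyOfFiniteType (opn G c.U).hom := inferInstanceAs (LocallyOfFiniteType (c.U.ι ≫ G.hom))

/-- The functions on the chart. -/
abbrev A := Fn (opn G c.U)

instance : Nonempty (opn G c.U).left := ⟨c.base.left.base (IsLocalRing.closedPoint k)⟩

instance : IsIntegral (opn G c.U).left := isIntegral_of_isOpenImmersion c.U.ι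

instance : IsDomain c.A := inferInstanceAs (IsDomain Γ((opn G c.U).left, ⊤))

instance : Algebra.FiniteType k c.A := by
  have := c.lft
  have h : (opn G c.U).hom.appTop.hom.FiniteType :=
    (HasRingHomProperty.iff_of_isAffine (P := @LocallyOfFiniteType)).mp inferInstance
  exact RingHom.finiteType_algebraMap.mp
    (h.comp (RingHom.FiniteType.of_surjective _ (Scheme.ΓSpecIso _).commRingCatIsoToRingEquiv.symm.surjective))

omit [GrpObj G] [QuasiCompact G.hom] in
theorem eq_zero_of_points {a : c.A} (h : ∀ y : VecGrp.pt k k ⟶ opn G c.U, evalPt y a = 0) : a = 0 :=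
  have := c.lft
  fn_ext_points fun y => by rw [h y, map_zero]

open Classical in
/-- Evaluation at a point of `G`, junk outside the chart. -/
def ev (x : VecGrp.pt k k ⟶ G) : c.A →ₐ[k] k :=
  if h : rp x ∈ c.U then evalPt (exists_lift_opn x h).choose else evalPt c.base

omit [GrpObj G] [LocallyOfFiniteType G.hom] [QuasiCompact G.hom] [IsIntegral G.left] in
theorem ev_comp (y : VecGrp.pt k k ⟶ opn G c.U) : c.ev (y ≫ opι G c.U) = evalPt y := by
  have h := rp_opι (G := G) y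
  rw [ev, dif_pos h]
  have hm : Mono (opι G c.U) := Over.mono_of_mono_left _
  rw [(cancel_mono (opι G c.U)).1 (exists_lift_opn _ h).choose_spec]

omit [GrpObj G] [LocallyOfFiniteType G.hom] [QuasiCompact G.hom] [IsIntegral G.left] in
theorem mk_ev (φ : c.A →ₐ[k] k) : c.ev (ptOf (opn G c.U) φ ≫ opι G c.U) = φ := by
  rw [ev_comp, evalPt_ptOf]

/-- The generic filter. -/
def gen : Filter (VecGrp.pt k k ⟶ G) where
  sets := {S | ∃ s : c.A, s ≠ 0 ∧ ∀ y : VecGrp.pt k k ⟶ opn G c.U, evalPt y s ≠ 0 → y ≫ opι G c.U ∈ S}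
  univ_sets := ⟨1, one_ne_zero, fun _ _ => trivial⟩
  sets_of_superset := fun ⟨s, hs, h⟩ hST => ⟨s, hs, fun y hy => hST (h y hy)⟩
  inter_sets := fun ⟨s, hs, h⟩ ⟨t, ht, h'⟩ => ⟨s * t, mul_ne_zero hs ht, fun y hy => by
    rw [map_mul] at hy
    exact ⟨h y (left_ne_zero_of_mul hy), h' y (right_ne_zero_of_mul hy)⟩⟩

omit [GrpObj G] [QuasiCompact G.hom] in
theorem mem_gen {S : Set (VecGrp.pt k k ⟶ G)} :
    S ∈ c.gen ↔ ∃ s : c.A, s ≠ 0 ∧ ∀ y : VecGrp.pt k k ⟶ opn G c.U, evalPt y s ≠ 0 → y ≫ opι G c.U ∈ S :=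
  Iff.rfl

omit [GrpObj G] [QuasiCompact G.hom] in
theorem eventually_mem : ∀ᶠ x in c.gen, rp x ∈ c.U :=
  ⟨1, one_ne_zero, fun y _ => rp_opι y⟩

omit [GrpObj G] [QuasiCompact G.hom] in
theorem gen_neBot : c.gen.NeBot := by
  rw [Filter.neBot_iff]
  intro h
  obtain ⟨s, hs, hy⟩ := (c.mem_gen (S := ∅)).1 (h ▸ Filter.mem_bot)
  refine hs (c.eq_zero_of_points fun y => ?_)
  by_contra hne
  exact hy y hne

omit [GrpObj G] [QuasiCompact G.hom] in
theorem evalPt_ne_zero_iff (y : VecGrp.pt k k ⟶ opn G c.U) (a : c.A) :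
    evalPt y a ≠ 0 ↔ rp y ∈ (opn G c.U).left.basicOpen a := by
  have key : (IsLocalRing.closedPoint k ∈ y.left ⁻¹ᵁ (opn G c.U).left.basicOpen a) ↔
      evalPt y a ≠ 0 := by
    rw [Scheme.preimage_basicOpen_top]
    show _ ↔ (Scheme.ΓSpecIso (CommRingCat.of k)).hom (y.left.appTop a) ≠ 0
    generalize y.left.appTop a = r
    refine (Iff.of_eq (congrArg (fun U : (Spec (CommRingCat.of k)).Opens => IsLocalRing.closedPoint k ∈ U)
      (basicOpen_eq_of_affine' r))).trans ?_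
    show (Scheme.ΓSpecIso (CommRingCat.of k)).hom r ∉ (IsLocalRing.closedPoint k).asIdeal ↔ _
    rw [show (IsLocalRing.closedPoint k).asIdeal = ⊥ from IsLocalRing.maximalIdeal_eq_bot, Ideal.mem_bot]
  exact key.symm

omit [GrpObj G] [QuasiCompact G.hom] in
theorem basicOpen_nonempty {a : c.A} (ha : a ≠ 0) : ((opn G c.U).left.basicOpen a : Set (opn G c.U).left).Nonempty := by
  rw [Set.nonempty_iff_ne_empty]
  exact fun e => ha (basicOpen_eq_bot_iff (X := (opn G c.U).left) a |>.1 (TopologicalSpace.Opens.coe_eq_empty.1 e))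

/-- There are points in a given basic open moved into a given nonempty open by a translation. -/
theorem exists_translate_mem (h : VecGrp.pt k k ⟶ G) {s : c.A} (hs : s ≠ 0) (O : G.left.Opens)
    (hO : (O : Set G.left).Nonempty) :
    ∃ y : VecGrp.pt k k ⟶ opn G c.U, evalPt y s ≠ 0 ∧ rp (h * (y ≫ opι G c.U)) ∈ O := by
  obtain ⟨z, hz⟩ := exists_point_mem_open (K := k) (O : Set G.left) O.2 hO
  have hP : ((lTr h).left ⁻¹' (O : Set G.left)).Nonempty := by
    refine ⟨rp (h⁻¹ * z), ?_⟩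
    have e : rp ((h⁻¹ * z) ≫ lTr h) = rp z := by rw [comp_lTr, mul_inv_cancel_left]
    show rp ((h⁻¹ * z) ≫ lTr h) ∈ O
    rw [e]
    exact hz
  let V : G.left.Opens := c.U.ι ''ᵁ (opn G c.U).left.basicOpen s
  have hne : ((lTr h).left ⁻¹' (O : Set G.left) ∩ (V : Set G.left)).Nonempty :=
    nonempty_preirreducible_inter (O.2.preimage (lTr h).left.continuous) V.2 hP ((c.basicOpen_nonempty hs).image _)
  obtain ⟨x, hx, hxV⟩ := exists_point_mem_open (K := k) _
    ((O.2.preimage (lTr h).left.continuous).inter V.2) hne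
  obtain ⟨p, hp, hpe⟩ := hxV
  have hxU : rp x ∈ c.U := (show c.U.ι p = rp x from hpe) ▸ p.2
  obtain ⟨y, rfl⟩ := exists_lift_opn x hxU
  have hpy : p = rp y := c.U.ι.isOpenEmbedding.injective hpe
  refine ⟨y, (c.evalPt_ne_zero_iff y s).2 (hpy ▸ hp), ?_⟩
  rw [← comp_lTr]
  exact hx

/-- Translates of functions are fractions. -/
theorem exists_translate (h : VecGrp.pt k k ⟶ G) :
    ∃ s : c.A, s ≠ 0 ∧ (∀ a : c.A, ∃ (b : c.A) (n : ℕ), ∀ y : VecGrp.pt k k ⟶ opn G c.U, evalPt y s ≠ 0 →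
      c.ev (h * (y ≫ opι G c.U)) a * evalPt y s ^ n = evalPt y b) ∧
      ∀ y : VecGrp.pt k k ⟶ opn G c.U, evalPt y s ≠ 0 → rp (h * (y ≫ opι G c.U)) ∈ c.U := by
  obtain ⟨y₀, -, hy₀⟩ := c.exists_translate_mem h one_ne_zero c.U ⟨_, rp_opι c.base⟩
  let v : VecGrp.pt k c.A ⟶ G := univ (opn G c.U) ≫ opι G c.U ≫ lTr h
  have hv : ∀ y : VecGrp.pt k k ⟶ opn G c.U, VecGrp.ptMap (evalPt y) ≫ v = h * (y ≫ opι G c.U) := fun y => by
    rw [← Category.assoc, ptMap_univ, ← Category.assoc, comp_lTr]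
  obtain ⟨s, hs, hr⟩ := exists_rep v (evalPt y₀) (by rw [hv]; exact hy₀)
  refine ⟨s, fun e => hs (by rw [e, map_zero]), fun a => ?_, fun y hy => ?_⟩
  · obtain ⟨b, n, hb⟩ := hr a
    refine ⟨b, n, fun y hy => ?_⟩
    obtain ⟨z, hz, he⟩ := hb (evalPt y) hy
    rw [← hv y, ← hz, ev_comp, he]
  · obtain ⟨_, _, hb⟩ := hr 0
    obtain ⟨z, hz, -⟩ := hb (evalPt y) hy
    rw [← hv y, ← hz]
    exact rp_opι z

theorem gen_tendsto_mul (h : VecGrp.pt k k ⟶ G) : Tendsto (fun x => h * x) c.gen c.gen := by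
  intro S hS
  obtain ⟨t, ht, hS⟩ := c.mem_gen.1 hS
  obtain ⟨s, hs, hr, hU⟩ := c.exists_translate h
  obtain ⟨b, n, hb⟩ := hr t
  have hb0 : b ≠ 0 := by
    intro e
    subst e
    obtain ⟨w, hwS, hwt⟩ := c.exists_translate_mem h hs (c.U.ι ''ᵁ (opn G c.U).left.basicOpen t)
      ((c.basicOpen_nonempty ht).image _)
    obtain ⟨z, hz⟩ := exists_lift_opn (h * (w ≫ opι G c.U)) (hU w hwS)
    rw [← hz] at hwt
    obtain ⟨p, hp, hpe⟩ := hwt
    have hpz : p = rp z := c.U.ι.isOpenEmbedding.injective hpe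
    have hw : c.ev (h * (w ≫ opι G c.U)) t ≠ 0 := by
      rw [← hz, ev_comp]
      exact (c.evalPt_ne_zero_iff z t).2 (hpz ▸ hp)
    exact mul_ne_zero hw (pow_ne_zero n hwS) ((hb w hwS).trans (map_zero _))
  refine c.mem_gen.2 ⟨s * b, mul_ne_zero hs hb0, fun y hy => ?_⟩
  rw [map_mul] at hy
  obtain ⟨z, hz⟩ := exists_lift_opn (h * (y ≫ opι G c.U)) (hU y (left_ne_zero_of_mul hy))
  show h * (y ≫ opι G c.U) ∈ S
  rw [← hz]
  refine hS z fun e => right_ne_zero_of_mul hy ?_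
  rw [← hb y (left_ne_zero_of_mul hy), ← hz, ev_comp, e, zero_mul]

/-- The evaluation data. -/
def toGen : Gen k (VecGrp.pt k k ⟶ G) c.A where
  F := c.gen
  ev := c.ev
  neBot := c.gen_neBot
  tendsto_mul := c.gen_tendsto_mul
  eventually_ne := fun a ha => ⟨a, ha, fun y hy => by
    show c.ev (y ≫ opι G c.U) a ≠ 0
    rwa [ev_comp]⟩

theorem exists_rat (h : VecGrp.pt k k ⟶ G) (a : c.A) : ∃ p q : c.A, q ≠ 0 ∧ c.toGen.Rat h a p q := by
  obtain ⟨s, hs, hr, -⟩ := c.exists_translate h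
  obtain ⟨b, n, hb⟩ := hr a
  refine ⟨b, s ^ n, pow_ne_zero n hs, c.mem_gen.2 ⟨s, hs, fun y hy => ?_⟩⟩
  show c.ev (h * (y ≫ opι G c.U)) a * c.ev (y ≫ opι G c.U) (s ^ n) = c.ev (y ≫ opι G c.U) b
  rw [ev_comp, map_pow]
  exact hb y hy

/-- Only the identity fixes all functions. -/
theorem eq_one_of_fixed {h : VecGrp.pt k k ⟶ G}
    (hfix : ∀ a : c.A, ∀ᶠ x in c.gen, c.ev (h * x) a = c.ev x a) : h = 1 := by
  obtain ⟨S, hS⟩ := (inferInstance : Algebra.FiniteType k c.A).out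
  have hev : ∀ᶠ x in c.gen, rp x ∈ c.U ∧ rp (h * x) ∈ c.U ∧ ∀ a ∈ S, c.ev (h * x) a = c.ev x a :=
    Filter.Eventually.and c.eventually_mem (Filter.Eventually.and (c.gen_tendsto_mul h c.eventually_mem)
      ((Filter.eventually_all_finset S).2 fun a _ => hfix a))
  have := c.gen_neBot
  obtain ⟨x, hx, hhx, ha⟩ := hev.exists
  obtain ⟨y, hy⟩ := exists_lift_opn x hx
  obtain ⟨z, hz⟩ := exists_lift_opn (h * x) hhx
  have : z = y := pt_ext (AlgHom.ext_of_adjoin_eq_top hS fun a haS => by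
    rw [← c.ev_comp, ← c.ev_comp, hy, hz]
    exact ha a haS)
  rw [this, hy] at hz
  exact mul_eq_right.1 hz.symm

end Chart

end Groth.Rosen
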