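import Groth.Agent.Rosenlicht.Points
import Mathlib.LinearAlgebra.TensorProduct.RightExactness
import Mathlib.RingTheory.FiniteStability
import Mathlib.RingTheory.DiscreteValuationRing.TFAE
import Mathlib.RingTheory.Localization.AtPrime.Basic

/-!
Pairs of points: representing the pullback of functions under multiplication as fractions, and their
behaviour along `G × E` for a prime `E` with principal maximal ideal in its local ring.
-/

set_option autoImplicit false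
universe u

open CategoryTheory MonoidalCategory CartesianMonoidalCategory MonObj GrpObj AlgebraicGeometry Filter
open Groth.Agf (Fn pull evalPt ptOf univ evalPt_ptMap evalPt_comp_apply pt_ext evalPt_ptOf ptMap_univ)
open scoped TensorProduct Groth.Agf

noncomputable section

namespace Groth.Rosen

section Tensor

variable {k : Type u} [Field k] {R S T : Type u} [CommRing R] [Algebra k R] [CommRing S] [Algebra k S]
  [CommRing T] [Algebra k T]

/-- Evaluation at a pair of points. -/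
def pr (φ : R →ₐ[k] k) (ψ : S →ₐ[k] k) : R ⊗[k] S →ₐ[k] k :=
  Algebra.TensorProduct.lift φ ψ fun _ _ => Commute.all _ _

/-- Slice at a point of the first factor. -/
def sl (φ : R →ₐ[k] k) : R ⊗[k] S →ₐ[k] S :=
  Algebra.TensorProduct.lift ((Algebra.ofId k S).comp φ) (AlgHom.id k S) fun _ _ => Commute.all _ _

/-- Slice at a point of the second factor. -/
def er (ψ : S →ₐ[k] k) : R ⊗[k] S →ₐ[k] R :=
  Algebra.TensorProduct.lift (AlgHom.id k R) ((Algebra.ofId k R).comp ψ) fun _ _ => Commute.all _ _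

@[simp] theorem pr_tmul (φ : R →ₐ[k] k) (ψ : S →ₐ[k] k) (a : R) (b : S) : pr φ ψ (a ⊗ₜ b) = φ a * ψ b := by
  simp [pr]

@[simp] theorem sl_tmul (φ : R →ₐ[k] k) (a : R) (b : S) : sl φ (a ⊗ₜ b) = algebraMap k S (φ a) * b := by
  simp [sl, Algebra.ofId_apply]

@[simp] theorem er_tmul (ψ : S →ₐ[k] k) (a : R) (b : S) : er ψ (a ⊗ₜ b) = a * algebraMap k R (ψ b) := by
  simp [er, Algebra.ofId_apply]

theorem comp_sl (φ : R →ₐ[k] k) (ψ : S →ₐ[k] k) (z : R ⊗[k] S) : ψ (sl φ z) = pr φ ψ z := by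
  induction z using TensorProduct.induction_on with
  | zero => simp
  | tmul a b => simp
  | add a b ha hb => simp [ha, hb]

theorem comp_er (φ : R →ₐ[k] k) (ψ : S →ₐ[k] k) (z : R ⊗[k] S) : φ (er ψ z) = pr φ ψ z := by
  induction z using TensorProduct.induction_on with
  | zero => simp
  | tmul a b => simp
  | add a b ha hb => simp [ha, hb]

theorem sl_map (φ : R →ₐ[k] k) (f : S →ₐ[k] T) (z : R ⊗[k] S) :
    sl φ (Algebra.TensorProduct.map (AlgHom.id k R) f z) = f (sl φ z) := by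
  induction z using TensorProduct.induction_on with
  | zero => simp
  | tmul a b => simp
  | add a b ha hb => simp [ha, hb]

theorem pr_map (φ : R →ₐ[k] k) (ψ : T →ₐ[k] k) (f : S →ₐ[k] T) (z : R ⊗[k] S) :
    pr φ ψ (Algebra.TensorProduct.map (AlgHom.id k R) f z) = pr φ (ψ.comp f) z := by
  induction z using TensorProduct.induction_on with
  | zero => simp
  | tmul a b => simp
  | add a b ha hb => simp [ha, hb]

variable [IsAlgClosed k] [Algebra.FiniteType k R] [Algebra.FiniteType k S] [IsDomain R] [IsDomain S]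

theorem finiteType_tensor : Algebra.FiniteType k (R ⊗[k] S) :=
  Algebra.FiniteType.trans (R := k) (S := R) (A := R ⊗[k] S) inferInstance
    (Algebra.FiniteType.baseChange (R := k) (A := S) R)

theorem eq_zero_of_pr {z : R ⊗[k] S} (h : ∀ φ ψ, pr φ ψ z = 0) : z = 0 := by
  have := finiteType_tensor (k := k) (R := R) (S := S)
  have := Groth.VarietyBC.isDomain_tensor (k := k) (A := R) (B := S)
  refine eq_zero_of_algHom (k := k) fun f => ?_
  rw [show f = pr (f.comp Algebra.TensorProduct.includeLeft) (f.comp Algebra.TensorProduct.includeRight) by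
    ext <;> simp [pr]]
  exact h _ _

theorem exists_sl_ne_zero {z : R ⊗[k] S} (hz : z ≠ 0) {a : R} (ha : a ≠ 0) :
    ∃ φ : R →ₐ[k] k, φ a ≠ 0 ∧ sl φ z ≠ 0 := by
  have := Groth.VarietyBC.isDomain_tensor (k := k) (A := R) (B := S)
  have ha' : (a ⊗ₜ[k] (1 : S)) ≠ 0 := fun e => ha
    (Algebra.TensorProduct.includeLeft_injective (R := k) (S := k) (A := R) (B := S)
      (algebraMap k S).injective (by simpa using e))
  by_contra hc
  push Not at hc
  refine mul_ne_zero ha' hz (eq_zero_of_pr fun φ ψ => ?_)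
  by_cases hφ : φ a = 0
  · simp [hφ]
  · rw [map_mul, ← comp_sl φ ψ z, hc φ hφ, map_zero, mul_zero]

variable (R) in
/-- The points of `R × V(𝔭)`. -/
def prodPrime (𝔭 : Ideal S) : Ideal (R ⊗[k] S) :=
  RingHom.ker (Algebra.TensorProduct.map (AlgHom.id k R) (Ideal.Quotient.mkₐ k 𝔭))

theorem prodPrime_isPrime (𝔭 : Ideal S) [𝔭.IsPrime] : (prodPrime R (k := k) 𝔭).IsPrime := by
  have := Groth.VarietyBC.isDomain_tensor (k := k) (A := R) (B := S ⧸ 𝔭)
  exact RingHom.ker_isPrime _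

omit [IsAlgClosed k] [Algebra.FiniteType k R] [Algebra.FiniteType k S] [IsDomain R] [IsDomain S] in
theorem sl_mem {𝔭 : Ideal S} {z : R ⊗[k] S} (hz : z ∈ prodPrime R (k := k) 𝔭) (φ : R →ₐ[k] k) :
    sl φ z ∈ 𝔭 := by
  rw [← Ideal.Quotient.eq_zero_iff_mem]
  show (Ideal.Quotient.mkₐ k 𝔭) (sl φ z) = 0
  rw [← sl_map, show Algebra.TensorProduct.map (AlgHom.id k R) (Ideal.Quotient.mkₐ k 𝔭) z = 0 from hz, map_zero]

theorem exists_sl_notMem {𝔭 : Ideal S} [𝔭.IsPrime] {z : R ⊗[k] S} (hz : z ∉ prodPrime R (k := k) 𝔭)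
    {a : R} (ha : a ≠ 0) : ∃ φ : R →ₐ[k] k, φ a ≠ 0 ∧ sl φ z ∉ 𝔭 := by
  have : Algebra.FiniteType k (S ⧸ 𝔭) :=
    Algebra.FiniteType.of_surjective (Ideal.Quotient.mkₐ k 𝔭) Ideal.Quotient.mk_surjective
  obtain ⟨φ, hφ, h⟩ := exists_sl_ne_zero (k := k) (z := Algebra.TensorProduct.map (AlgHom.id k R)
    (Ideal.Quotient.mkₐ k 𝔭) z) hz ha
  rw [sl_map] at h
  exact ⟨φ, hφ, fun hm => h (Ideal.Quotient.eq_zero_iff_mem.2 hm)⟩

/-- `R × V(𝔭)` has a valuation ring as local ring if `V(𝔭)` is cut out by one element near its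
generic point. -/
theorem frac_total {𝔭 : Ideal S} [𝔭.IsPrime] (t : S) (ht : t ∈ 𝔭)
    (hpr : ∀ b ∈ 𝔭, ∃ q ∉ 𝔭, t ∣ b * q) (z w : R ⊗[k] S) :
    ∃ Q ∉ prodPrime R (k := k) 𝔭, (∃ u, z * Q = w * u) ∨ (∃ u, w * Q = z * u) := by
  have := finiteType_tensor (k := k) (R := R) (S := S)
  have : IsDomain (R ⊗[k] S) := Groth.VarietyBC.isDomain_tensor
  have hP := prodPrime_isPrime (k := k) (R := R) 𝔭
  let P := prodPrime R (k := k) 𝔭
  let t' : R ⊗[k] S := (1 : R) ⊗ₜ t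
  have htP : t' ∈ P := by
    show Algebra.TensorProduct.map _ _ _ = 0
    rw [Algebra.TensorProduct.map_tmul]
    show (1 : R) ⊗ₜ[k] Ideal.Quotient.mk 𝔭 t = 0
    rw [Ideal.Quotient.eq_zero_iff_mem.2 ht, TensorProduct.tmul_zero]
  have hgen : ∀ x ∈ P, ∃ Q ∉ P, t' ∣ x * Q := by
    intro x hx
    have hker : P = Ideal.map (Algebra.TensorProduct.includeRight (R := k) (A := R)) 𝔭 := by
      show RingHom.ker _ = _
      rw [Algebra.TensorProduct.lTensor_ker _ Ideal.Quotient.mk_surjective]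
      congr 1
      exact Ideal.mk_ker
    rw [hker, Ideal.map] at hx
    induction hx using Submodule.span_induction with
    | mem y hy =>
      obtain ⟨b, hb, rfl⟩ := hy
      obtain ⟨q, hq, d, hd⟩ := hpr b hb
      refine ⟨(1 : R) ⊗ₜ q, fun hm => ?_, (1 : R) ⊗ₜ d, ?_⟩
      · obtain ⟨φ, -⟩ := Groth.VarietyBC.exists_algHom_ne_zero (k := k) (a := (1 : R)) not_isNilpotent_one
        refine hq ?_
        simpa using sl_mem hm φ
      · show (1 : R) ⊗ₜ[k] b * (1 : R) ⊗ₜ q = t' * _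
        simp [t', hd]
    | zero => exact ⟨1, hP.one_notMem, by simp⟩
    | add a b _ _ ha hb =>
      obtain ⟨Qa, hQa, hda⟩ := ha
      obtain ⟨Qb, hQb, hdb⟩ := hb
      refine ⟨Qa * Qb, hP.mul_notMem hQa hQb, ?_⟩
      rw [add_mul]
      exact dvd_add ((hda.mul_right Qb).trans (by rw [_root_.mul_assoc])) ((hdb.mul_right Qa).trans (by rw [_root_.mul_assoc, mul_comm Qb Qa]))
    | smul r a _ ha =>
      obtain ⟨Qa, hQa, hda⟩ := ha
      exact ⟨Qa, hQa, (hda.mul_left r).trans (by rw [smul_eq_mul, _root_.mul_assoc])⟩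
  have : IsNoetherianRing (R ⊗[k] S) := Algebra.FiniteType.isNoetherianRing k _
  let L := Localization.AtPrime P
  have : IsDomain L := IsLocalization.isDomain_localization P.primeCompl_le_nonZeroDivisors
  have : IsNoetherianRing L := IsLocalization.isNoetherianRing P.primeCompl L inferInstance
  have hprin : (IsLocalRing.maximalIdeal L).IsPrincipal := by
    refine ⟨algebraMap _ L t', le_antisymm ?_ ?_⟩
    · rw [← Localization.AtPrime.map_eq_maximalIdeal, Ideal.map_le_iff_le_comap]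
      intro x hx
      obtain ⟨Q, hQ, d, hd⟩ := hgen x hx
      have hu : IsUnit (algebraMap _ L Q) := IsLocalization.map_units L (⟨Q, hQ⟩ : P.primeCompl)
      refine Ideal.mem_span_singleton.2 (hu.dvd_mul_right.1 ?_)
      rw [← map_mul, hd, map_mul]
      exact Dvd.intro _ rfl
    · rw [← Localization.AtPrime.map_eq_maximalIdeal]
      exact (Ideal.span_singleton_le_iff_mem _).2 (Ideal.mem_map_of_mem _ htP)
  have : ValuationRing L := ((tfae_of_isNoetherianRing_of_isLocalRing_of_isDomain L).out 4 1).1 hprin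
  rcases ValuationRing.dvd_total (algebraMap _ L w) (algebraMap _ L z) with ⟨l, hl⟩ | ⟨l, hl⟩
  · obtain ⟨⟨u, Q, hQ⟩, he⟩ := IsLocalization.surj P.primeCompl l
    refine ⟨Q, hQ, Or.inl ⟨u, IsLocalization.injective L P.primeCompl_le_nonZeroDivisors ?_⟩⟩
    rw [map_mul, map_mul, hl, _root_.mul_assoc]
    exact congrArg _ he
  · obtain ⟨⟨u, Q, hQ⟩, he⟩ := IsLocalization.surj P.primeCompl l
    refine ⟨Q, hQ, Or.inr ⟨u, IsLocalization.injective L P.primeCompl_le_nonZeroDivisors ?_⟩⟩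
    rw [map_mul, map_mul, hl, _root_.mul_assoc]
    exact congrArg _ he

end Tensor

variable {k : Type u} [Field k] [IsAlgClosed k] {G : Over (Spec (CommRingCat.of k))}
  [GrpObj G] [LocallyOfFiniteType G.hom] [QuasiCompact G.hom] [IsIntegral G.left]

namespace Chart

variable (c : Chart G)

local notation "ιc" => opι G c.U

/-- `a (g x) = P (g, x) / Q (g, x)` wherever it makes sense. -/
def Rep (a : c.A) (P Q : c.A ⊗[k] c.A) : Prop :=
  ∀ g x y : VecGrp.pt k k ⟶ opn G c.U, (g ≫ ιc) * (x ≫ ιc) = y ≫ ιc →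
    evalPt y a * pr (evalPt g) (evalPt x) Q = pr (evalPt g) (evalPt x) P

variable {c}

theorem eq_zero_of_pr_points {z : c.A ⊗[k] c.A}
    (h : ∀ g x : VecGrp.pt k k ⟶ opn G c.U, pr (evalPt g) (evalPt x) z = 0) : z = 0 :=
  eq_zero_of_pr fun φ ψ => by
    have := h (ptOf _ φ) (ptOf _ ψ)
    rwa [evalPt_ptOf, evalPt_ptOf] at this

variable (c)

/-- Near every pair of points with product in the chart there is a representation. -/
theorem exists_rep_local (g x y : VecGrp.pt k k ⟶ opn G c.U) (h : (g ≫ ιc) * (x ≫ ιc) = y ≫ ιc) (a : c.A) :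
    ∃ (s P : c.A ⊗[k] c.A) (n : ℕ), pr (evalPt g) (evalPt x) s ≠ 0 ∧
      ∀ g' x' : VecGrp.pt k k ⟶ opn G c.U, pr (evalPt g') (evalPt x') s ≠ 0 →
        ∃ y' : VecGrp.pt k k ⟶ opn G c.U, (g' ≫ ιc) * (x' ≫ ιc) = y' ≫ ιc ∧
          evalPt y' a * pr (evalPt g') (evalPt x') s ^ n = pr (evalPt g') (evalPt x') P := by
  let v : VecGrp.pt k (c.A ⊗[k] c.A) ⟶ G :=
    (VecGrp.ptMap (Algebra.TensorProduct.includeLeft : c.A →ₐ[k] c.A ⊗[k] c.A) ≫ univ (opn G c.U) ≫ ιc) *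
      (VecGrp.ptMap (Algebra.TensorProduct.includeRight : c.A →ₐ[k] c.A ⊗[k] c.A) ≫ univ (opn G c.U) ≫ ιc)
  have hv : ∀ g x : VecGrp.pt k k ⟶ opn G c.U,
      VecGrp.ptMap (pr (evalPt g) (evalPt x)) ≫ v = (g ≫ ιc) * (x ≫ ιc) := fun g x => by
    have e : ∀ (i : c.A →ₐ[k] c.A ⊗[k] c.A) (f : VecGrp.pt k k ⟶ opn G c.U),
        (pr (evalPt g) (evalPt x)).comp i = evalPt f →
        VecGrp.ptMap (pr (evalPt g) (evalPt x)) ≫ VecGrp.ptMap i ≫ univ (opn G c.U) ≫ ιc = f ≫ ιc := by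
      intro i f hf
      calc VecGrp.ptMap (pr (evalPt g) (evalPt x)) ≫ VecGrp.ptMap i ≫ univ (opn G c.U) ≫ ιc
          = (VecGrp.ptMap ((pr (evalPt g) (evalPt x)).comp i) ≫ univ (opn G c.U)) ≫ ιc := by
            rw [AlgGrp1.ptMap_comp]; simp only [Category.assoc]
        _ = f ≫ ιc := by rw [hf, ptMap_univ]
    rw [MonObj.comp_mul, e _ g (AlgHom.ext fun a => by simp), e _ x (AlgHom.ext fun a => by simp)]
  obtain ⟨s, hs, hr⟩ := exists_rep v (pr (evalPt g) (evalPt x)) (U := c.U) (by rw [hv, h]; exact rp_opι y)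
  obtain ⟨P, n, hP⟩ := hr a
  refine ⟨s, P, n, hs, fun g' x' hs' => ?_⟩
  obtain ⟨y', hy', he⟩ := hP _ hs'
  exact ⟨y', by rw [hy', hv], he⟩

/-- A function on pairs defined near a pair of points is a global fraction there. -/
theorem exists_rep_at (g x y : VecGrp.pt k k ⟶ opn G c.U) (h : (g ≫ ιc) * (x ≫ ιc) = y ≫ ιc) (a : c.A) :
    ∃ P Q : c.A ⊗[k] c.A, pr (evalPt g) (evalPt x) Q ≠ 0 ∧ c.Rep a P Q := by
  have : IsDomain (c.A ⊗[k] c.A) := Groth.VarietyBC.isDomain_tensor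
  obtain ⟨s, P, n, hs, hP⟩ := c.exists_rep_local g x y h a
  refine ⟨P, s ^ n, by rw [map_pow]; exact pow_ne_zero n hs, fun g' x' y' h' => ?_⟩
  obtain ⟨s', P', m, hs', hP'⟩ := c.exists_rep_local g' x' y' h' a
  have hs0 : s ≠ 0 := fun e => hs (by rw [e, map_zero])
  have hs0' : s' ≠ 0 := fun e => hs' (by rw [e, map_zero])
  have key : (P * s' ^ m - P' * s ^ n) * (s * s') = 0 := eq_zero_of_pr_points fun g₁ x₁ => by
    rw [map_mul, map_mul]
    by_cases h1 : pr (evalPt g₁) (evalPt x₁) s = 0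
    · simp [h1]
    by_cases h2 : pr (evalPt g₁) (evalPt x₁) s' = 0
    · simp [h2]
    obtain ⟨y₁, hy₁, e₁⟩ := hP g₁ x₁ h1
    obtain ⟨y₂, hy₂, e₂⟩ := hP' g₁ x₁ h2
    have hm : Mono ιc := Over.mono_of_mono_left _
    obtain rfl : y₁ = y₂ := (cancel_mono ιc).1 (hy₁.symm.trans hy₂)
    rw [map_sub, map_mul, map_mul, map_pow, map_pow, ← e₁, ← e₂]
    ring
  have key' := sub_eq_zero.1 ((mul_eq_zero.1 key).resolve_right (mul_ne_zero hs0 hs0'))
  obtain ⟨y₂, hy₂, e₂⟩ := hP' g' x' hs'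
  have hm : Mono ιc := Over.mono_of_mono_left _
  obtain rfl : y' = y₂ := (cancel_mono ιc).1 (h'.symm.trans hy₂)
  have e := congrArg (pr (evalPt g') (evalPt x')) key'
  simp only [map_mul, map_pow] at e ⊢
  refine mul_right_cancel₀ (pow_ne_zero m hs') ?_
  rw [e, ← e₂]
  ring

theorem exists_triple :
    ∃ g x y : VecGrp.pt k k ⟶ opn G c.U, (g ≫ ιc) * (x ≫ ιc) = y ≫ ιc := by
  obtain ⟨x, -, hx⟩ := c.exists_translate_mem (c.base ≫ ιc) one_ne_zero c.U ⟨_, rp_opι c.base⟩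
  obtain ⟨y, hy⟩ := exists_lift_opn _ hx
  exact ⟨c.base, x, y, hy.symm⟩

theorem exists_rep_global (a : c.A) : ∃ P Q : c.A ⊗[k] c.A, Q ≠ 0 ∧ c.Rep a P Q := by
  obtain ⟨g, x, y, h⟩ := c.exists_triple
  obtain ⟨P, Q, hQ, hr⟩ := c.exists_rep_at g x y h a
  exact ⟨P, Q, fun e => hQ (by rw [e, map_zero]), hr⟩

variable {c}

theorem Rep.of_cross {a : c.A} {P Q P' Q' : c.A ⊗[k] c.A} (h : c.Rep a P Q) (hQ : Q ≠ 0)
    (e : P * Q' = P' * Q) : c.Rep a P' Q' := by
  have : IsDomain (c.A ⊗[k] c.A) := Groth.VarietyBC.isDomain_tensor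
  intro g x y hy
  obtain ⟨P₁, Q₁, hQ₁, h₁⟩ := c.exists_rep_at g x y hy a
  have hQ₁0 : Q₁ ≠ 0 := fun e => hQ₁ (by rw [e, map_zero])
  -- the two fractions agree
  obtain ⟨g₀, x₀, y₀, hy₀⟩ := c.exists_triple
  obtain ⟨s, _, _, hs, hmem⟩ := c.exists_rep_local g₀ x₀ y₀ hy₀ a
  have hs0 : s ≠ 0 := fun e => hs (by rw [e, map_zero])
  have key : (P * Q₁ - P₁ * Q) * s = 0 := eq_zero_of_pr_points fun g₂ x₂ => by
    rw [map_mul]
    by_cases h2 : pr (evalPt g₂) (evalPt x₂) s = 0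
    · simp [h2]
    obtain ⟨y₂, hy₂, -⟩ := hmem g₂ x₂ h2
    rw [map_sub, map_mul, map_mul, ← h g₂ x₂ y₂ hy₂, ← h₁ g₂ x₂ y₂ hy₂]
    ring
  have key' := sub_eq_zero.1 ((mul_eq_zero.1 key).resolve_right hs0)
  have e' : P₁ * Q' = P' * Q₁ := mul_right_cancel₀ hQ (by linear_combination (-Q') * key' + Q₁ * e)
  have e'' := congrArg (pr (evalPt g) (evalPt x)) e'
  simp only [map_mul, ← h₁ g x y hy] at e''
  exact mul_right_cancel₀ hQ₁ (by linear_combination e'')

theorem Rep.slice {a : c.A} {P Q : c.A ⊗[k] c.A} (h : c.Rep a P Q) (g : VecGrp.pt k k ⟶ opn G c.U) :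
    c.toGen.Rat (g ≫ ιc) a (sl (evalPt g) P) (sl (evalPt g) Q) := by
  filter_upwards [c.eventually_mem, c.gen_tendsto_mul (g ≫ ιc) c.eventually_mem] with w hw hgw
  obtain ⟨x, rfl⟩ := exists_lift_opn w hw
  obtain ⟨y, hy⟩ := exists_lift_opn _ hgw
  have hy' : y ≫ ιc = (g ≫ ιc) * (x ≫ ιc) := hy
  show c.ev ((g ≫ ιc) * (x ≫ ιc)) a * c.ev (x ≫ ιc) _ = c.ev (x ≫ ιc) _
  rw [← hy', ev_comp, ev_comp, comp_sl, comp_sl]
  exact h g x y hy'.symm

theorem Rep.ne_zero {a : c.A} {P Q : c.A ⊗[k] c.A} (h : c.Rep a P Q) (ha : a ≠ 0) (hQ : Q ≠ 0) : P ≠ 0 := by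
  intro hP
  obtain ⟨φ, -, hφ⟩ := exists_sl_ne_zero hQ (one_ne_zero (α := c.A))
  have := h.slice (ptOf _ φ)
  rw [evalPt_ptOf] at this
  exact this.ne_zero ha hφ (by rw [hP, map_zero])

/-- Representations with coefficients in a subalgebra with the same fractions. -/
theorem exists_rep_sub (B : Subalgebra k c.A) (hfrac : ∀ a : c.A, ∃ p q : B, q ≠ 0 ∧ a * q = p) (a : c.A) :
    ∃ P Q : c.A ⊗[k] B, Q ≠ 0 ∧ c.Rep a (Algebra.TensorProduct.map (AlgHom.id k c.A) B.val P)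
      (Algebra.TensorProduct.map (AlgHom.id k c.A) B.val Q) := by
  have : IsDomain (c.A ⊗[k] c.A) := Groth.VarietyBC.isDomain_tensor
  let j := Algebra.TensorProduct.map (AlgHom.id k c.A) B.val
  have hclear : ∀ z : c.A ⊗[k] c.A, ∃ (d : B) (w : c.A ⊗[k] B), d ≠ 0 ∧ j w = z * (1 ⊗ₜ (d : c.A)) := by
    intro z
    induction z using TensorProduct.induction_on with
    | zero => exact ⟨1, 0, one_ne_zero, by simp⟩
    | tmul u v =>
      obtain ⟨p, q, hq, e⟩ := hfrac v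
      exact ⟨q, u ⊗ₜ p, hq, by simp [j, e]⟩
    | add z z' hz hz' =>
      obtain ⟨d, w, hd, e⟩ := hz
      obtain ⟨d', w', hd', e'⟩ := hz'
      refine ⟨d * d', w * (1 ⊗ₜ d') + w' * (1 ⊗ₜ d), mul_ne_zero hd hd', ?_⟩
      rw [map_add, map_mul, map_mul, e, e', Algebra.TensorProduct.map_tmul, Algebra.TensorProduct.map_tmul]
      simp only [map_one, Subalgebra.coe_val, Subalgebra.coe_mul]
      rw [show (1 : c.A) ⊗ₜ[k] ((d : c.A) * (d' : c.A)) = (1 ⊗ₜ (d : c.A)) * (1 ⊗ₜ (d' : c.A)) by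
        rw [Algebra.TensorProduct.tmul_mul_tmul, _root_.one_mul]]
      ring
  obtain ⟨P, Q, hQ, h⟩ := c.exists_rep_global a
  obtain ⟨d, P₁, hd, eP⟩ := hclear P
  obtain ⟨d', Q₁, hd', eQ⟩ := hclear Q
  have hD : ∀ b : B, b ≠ 0 → (1 : c.A) ⊗ₜ[k] (b : c.A) ≠ 0 := fun b hb e => hb (Subtype.ext
    (Algebra.TensorProduct.includeRight_injective (R := k) (A := c.A) (B := c.A)
      (algebraMap k c.A).injective (by simpa using e)))
  refine ⟨P₁ * (1 ⊗ₜ d'), Q₁ * (1 ⊗ₜ d), fun e0 => ?_, h.of_cross hQ ?_⟩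
  · have := congrArg j e0
    rw [map_mul, eQ, map_zero] at this
    exact mul_ne_zero (mul_ne_zero hQ (hD d' hd')) (hD d hd) (by simpa [j] using this)
  · show P * j _ = j _ * Q
    rw [map_mul, map_mul, eP, eQ]
    simp only [j, Algebra.TensorProduct.map_tmul, map_one, Subalgebra.coe_val]
    ring

/-- The invariance of the valuation ring of a prime of `B` under translations. -/
def Invariant (B : Subalgebra k c.A) (𝔭 : Ideal B) : Prop :=
  ∀ (h : VecGrp.pt k k ⟶ G) (b : B), ∃ p q : B, q ∉ 𝔭 ∧ c.toGen.Rat h b p q ∧ (b ∈ 𝔭 ↔ p ∈ 𝔭)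

/-- **The action is defined at the generic point of `G × E`** for an invariant `E`. -/
theorem exists_rep_invariant {B : Subalgebra k c.A} [Algebra.FiniteType k B]
    (hfrac : ∀ a : c.A, ∃ p q : B, q ≠ 0 ∧ a * q = p) {𝔭 : Ideal B} [𝔭.IsPrime] {t : B} (ht : t ∈ 𝔭)
    (hpr : ∀ b ∈ 𝔭, ∃ q ∉ 𝔭, t ∣ b * q) (hinv : Invariant B 𝔭) (b : B) :
    ∃ P Q : c.A ⊗[k] B, Q ∉ prodPrime c.A (k := k) 𝔭 ∧
      c.Rep b (Algebra.TensorProduct.map (AlgHom.id k c.A) B.val P)
        (Algebra.TensorProduct.map (AlgHom.id k c.A) B.val Q) := by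
  have : IsDomain (c.A ⊗[k] c.A) := Groth.VarietyBC.isDomain_tensor
  let j := Algebra.TensorProduct.map (AlgHom.id k c.A) B.val
  have hj : Function.Injective j := Module.Flat.lTensor_preserves_injective_linearMap _ Subtype.val_injective
  obtain ⟨P, Q, hQ, h⟩ := c.exists_rep_sub B hfrac b
  have hjQ : j Q ≠ 0 := fun e => hQ (hj (by rw [e, map_zero]))
  obtain ⟨Q', hQ', hc⟩ := frac_total (R := c.A) t ht hpr P Q
  rcases hc with ⟨u, hu⟩ | ⟨u, hu⟩
  · refine ⟨u, Q', hQ', h.of_cross hjQ ?_⟩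
    show j P * j Q' = j u * j Q
    rw [← map_mul, ← map_mul, hu, mul_comm]
  · by_cases hu' : u ∈ prodPrime c.A (k := k) 𝔭
    · exfalso
      have h' : c.Rep b (j Q') (j u) := h.of_cross hjQ (by
        show j P * j u = j Q' * j Q
        rw [← map_mul, ← map_mul, ← hu, mul_comm])
      obtain ⟨φ, -, hφ⟩ := exists_sl_notMem hQ' (one_ne_zero (α := c.A))
      have hs := h'.slice (ptOf _ φ)
      rw [evalPt_ptOf, sl_map, sl_map] at hs
      obtain ⟨p, q, hq, hr, -⟩ := hinv (ptOf _ φ ≫ ιc) b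
      have e : sl φ Q' * q = p * sl φ u := Subtype.ext (hs.cross hr)
      exact (‹𝔭.IsPrime›.mem_or_mem (e ▸ 𝔭.mul_mem_left p (sl_mem hu' φ) : sl φ Q' * q ∈ 𝔭)).elim hφ hq
    · refine ⟨Q', u, hu', h.of_cross hjQ ?_⟩
      show j P * j u = j Q' * j Q
      rw [← map_mul, ← map_mul, ← hu, mul_comm]

end Chart

end Groth.Rosen
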