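import Groth.Agent.Rosenlicht.Product
import Mathlib.RingTheory.Localization.Away.Basic

/-!
For an invariant prime `𝔭` of `B` the translation action is given by a homomorphism
`B → (A ⊗ B)[q⁻¹]` with `q` not vanishing identically on `G × V(𝔭)`.
-/

set_option autoImplicit false
universe u

open CategoryTheory MonoidalCategory CartesianMonoidalCategory MonObj GrpObj AlgebraicGeometry Filter
open Groth.Agf (Fn pull evalPt ptOf univ evalPt_ptMap evalPt_comp_apply pt_ext evalPt_ptOf ptMap_univ)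
open scoped TensorProduct Groth.Agf

noncomputable section

namespace Groth.Rosen

variable {k : Type u} [Field k] [IsAlgClosed k] {G : Over (Spec (CommRingCat.of k))}
  [GrpObj G] [LocallyOfFiniteType G.hom] [QuasiCompact G.hom] [IsIntegral G.left]

namespace Chart

variable {c : Chart G}

/-- The inclusion of `A ⊗ B` into `A ⊗ A`. -/
abbrev jB (B : Subalgebra k c.A) : c.A ⊗[k] B →ₐ[k] c.A ⊗[k] c.A :=
  Algebra.TensorProduct.map (AlgHom.id k c.A) B.val

theorem jB_injective (B : Subalgebra k c.A) : Function.Injective (jB B) :=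
  Module.Flat.lTensor_preserves_injective_linearMap _ Subtype.val_injective

theorem Rep.add {a a' : c.A} {P Q P' Q' : c.A ⊗[k] c.A} (h : c.Rep a P Q) (h' : c.Rep a' P' Q') :
    c.Rep (a + a') (P * Q' + P' * Q) (Q * Q') := by
  intro g x y hy
  simp only [map_add, map_mul, ← h g x y hy, ← h' g x y hy]
  ring

theorem Rep.mul {a a' : c.A} {P Q P' Q' : c.A ⊗[k] c.A} (h : c.Rep a P Q) (h' : c.Rep a' P' Q') :
    c.Rep (a * a') (P * P') (Q * Q') := by
  intro g x y hy
  simp only [map_mul, ← h g x y hy, ← h' g x y hy]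
  ring

theorem rep_const (r : k) : c.Rep (algebraMap k c.A r) (algebraMap k _ r) 1 := fun g x y _ => by simp

theorem Rep.cross {a : c.A} {P Q P' Q' : c.A ⊗[k] c.A} (h : c.Rep a P Q) (h' : c.Rep a P' Q') :
    P * Q' = P' * Q := by
  have : IsDomain (c.A ⊗[k] c.A) := Groth.VarietyBC.isDomain_tensor
  obtain ⟨g₀, x₀, y₀, hy₀⟩ := c.exists_triple
  obtain ⟨s, _, _, hs, hmem⟩ := c.exists_rep_local g₀ x₀ y₀ hy₀ a
  have hs0 : s ≠ 0 := fun e => hs (by rw [e, map_zero])
  have key : (P * Q' - P' * Q) * s = 0 := eq_zero_of_pr_points fun g₂ x₂ => by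
    rw [map_mul]
    by_cases h2 : pr (evalPt g₂) (evalPt x₂) s = 0
    · simp [h2]
    obtain ⟨y₂, hy₂, -⟩ := hmem g₂ x₂ h2
    rw [map_sub, map_mul, map_mul, ← h g₂ x₂ y₂ hy₂, ← h' g₂ x₂ y₂ hy₂]
    ring
  exact sub_eq_zero.1 ((mul_eq_zero.1 key).resolve_right hs0)

variable {B : Subalgebra k c.A} [Algebra.FiniteType k B] {𝔭 : Ideal B} [𝔭.IsPrime]

/-- One denominator for all of `B`. -/
theorem exists_uniform (hfrac : ∀ a : c.A, ∃ p q : B, q ≠ 0 ∧ a * q = p) {t : B} (ht : t ∈ 𝔭)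
    (hpr : ∀ b ∈ 𝔭, ∃ q ∉ 𝔭, t ∣ b * q) (hinv : Invariant B 𝔭) :
    ∃ q : c.A ⊗[k] B, q ∉ prodPrime c.A (k := k) 𝔭 ∧
      ∀ b : B, ∃ (P : c.A ⊗[k] B) (n : ℕ), c.Rep b (jB B P) (jB B (q ^ n)) := by
  classical
  have hP := prodPrime_isPrime (k := k) (R := c.A) 𝔭
  obtain ⟨S, hS⟩ := (inferInstance : Algebra.FiniteType k B).out
  choose P Q hQ hrep using fun b : B => c.exists_rep_invariant hfrac ht hpr hinv b
  let q := ∏ b ∈ S, Q b
  have hne : ∀ x, x ∉ prodPrime c.A (k := k) 𝔭 → jB B x ≠ 0 := fun x hx e =>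
    hx (jB_injective B (e.trans (map_zero _).symm) ▸ Submodule.zero_mem _)
  refine ⟨q, fun h => ?_, fun b => ?_⟩
  · obtain ⟨b, -, hb⟩ := hP.prod_mem_iff.1 h
    exact hQ b hb
  have hb : b ∈ Algebra.adjoin k (S : Set B) := hS ▸ trivial
  induction hb using Algebra.adjoin_induction with
  | mem x hx =>
    refine ⟨P x * ∏ b ∈ S.erase x, Q b, 1, (hrep x).of_cross (hne _ (hQ x)) ?_⟩
    rw [pow_one, map_mul, show q = Q x * ∏ b ∈ S.erase x, Q b from (Finset.mul_prod_erase S Q hx).symm, map_mul]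
    ring
  | algebraMap r =>
    refine ⟨algebraMap k _ r, 0, ?_⟩
    rw [pow_zero, AlgHom.commutes, map_one]
    exact c.rep_const r
  | add x y _ _ hx hy =>
    obtain ⟨Px, n, hx⟩ := hx
    obtain ⟨Py, m, hy⟩ := hy
    refine ⟨Px * q ^ m + Py * q ^ n, n + m, ?_⟩
    have := hx.add hy
    rw [← map_mul, ← map_mul, ← map_add, ← map_mul, ← pow_add] at this
    exact this
  | mul x y _ _ hx hy =>
    obtain ⟨Px, n, hx⟩ := hx
    obtain ⟨Py, m, hy⟩ := hy
    refine ⟨Px * Py, n + m, ?_⟩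
    have := hx.mul hy
    rw [← map_mul, ← map_mul, ← pow_add] at this
    exact this

omit [Algebra.FiniteType k B] in
/-- The action as a homomorphism. -/
theorem exists_theta {q : c.A ⊗[k] B}
    (hq : ∀ b : B, ∃ (P : c.A ⊗[k] B) (n : ℕ), c.Rep b (jB B P) (jB B (q ^ n))) :
    ∃ Θ : B →ₐ[k] Localization.Away q, ∀ (b : B) (P : c.A ⊗[k] B) (n : ℕ),
      c.Rep b (jB B P) (jB B (q ^ n)) →
        Θ b * algebraMap _ _ (q ^ n) = algebraMap _ _ P := by
  choose P n hrep using hq
  let L := Localization.Away q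
  let α := algebraMap (c.A ⊗[k] B) L
  have hu : ∀ m : ℕ, IsUnit (α (q ^ m)) := fun m => by
    rw [map_pow]; exact (IsLocalization.Away.algebraMap_isUnit q).pow m
  let θ : B → L := fun b => α (P b) * ↑(hu (n b)).unit⁻¹
  have key : ∀ (b : B) P' m, c.Rep b (jB B P') (jB B (q ^ m)) → θ b * α (q ^ m) = α P' := fun b P' m h => by
    have e := (hrep b).cross h
    rw [← map_mul, ← map_mul] at e
    have e' := congrArg α (jB_injective B e)
    rw [map_mul, map_mul] at e'
    rw [show θ b * α (q ^ m) = (α (P b) * α (q ^ m)) * ↑(hu (n b)).unit⁻¹ by simp [θ]; ring, e',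
      _root_.mul_assoc, IsUnit.mul_val_inv, _root_.mul_one]
  have key' : ∀ (b : B) (x : L) P' m, c.Rep b (jB B P') (jB B (q ^ m)) → x * α (q ^ m) = α P' → θ b = x :=
    fun b x P' m h hx => (hu m).mul_right_cancel ((key b P' m h).trans hx.symm)
  refine ⟨{
    toFun := θ
    map_one' := key' 1 1 1 0 (fun g x y _ => by simp) (by simp [α])
    map_mul' := fun x y => key' _ _ _ (n x + n y) (by
      have := (hrep x).mul (hrep y)
      rw [← map_mul, ← map_mul, ← pow_add] at this
      exact this) (by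
      rw [pow_add, map_mul, _root_.mul_mul_mul_comm, key x _ _ (hrep x), key y _ _ (hrep y), ← map_mul])
    map_zero' := key' 0 0 0 0 (fun g x y _ => by simp) (by simp [α])
    map_add' := fun x y => key' _ _ _ (n x + n y) (by
      have := (hrep x).add (hrep y)
      rw [← map_mul, ← map_mul, ← map_add, ← map_mul, ← pow_add] at this
      exact this) (by
      rw [add_mul, map_add, map_mul, map_mul, ← key x _ _ (hrep x), ← key y _ _ (hrep y), pow_add, map_mul]
      ring)
    commutes' := fun r => key' _ _ (algebraMap k _ r) 0 (fun g x y _ => by simp) (by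
      rw [pow_zero, map_one, _root_.mul_one]
      exact IsScalarTower.algebraMap_apply k (c.A ⊗[k] B) L r) }, key⟩

end Chart

end Groth.Rosen
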